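import Groth.Agent.ProjQuotLib.Chart
import Groth.Agent.QCohLib.ProjSpace
import Groth.Prelude.Def_Coh

/-!
# The standard charts of projective space
-/

universe u

open CategoryTheory AlgebraicGeometry Opposite TopologicalSpace MvPolynomial HomogeneousLocalization

namespace GradedCechLib

variable (n : ℕ) (R : Type u) [CommRing R]

/-- The polynomial ring. -/
abbrev Poly : Type u := MvPolynomial (Fin (n + 1)) R

lemma X_mem (i : Fin (n + 1)) : (X i : Poly n R) ∈ CohB1.polyGrading n R 1 :=
  (mem_homogeneousSubmodule _ _).2 (isHomogeneous_X R i)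

/-- A power of a coordinate. -/
noncomputable def xpw (i : Fin (n + 1)) (m : ℕ) : Submonoid.powers (X i : Poly n R) :=
  ⟨(X i : Poly n R) ^ m, pow_mem (Submonoid.mem_powers _) m⟩

/-- Constants in a chart ring. -/
noncomputable def cst (f : Poly n R) : R →+* Away (CohB1.polyGrading n R) f :=
  (fromZeroRingHom (CohB1.polyGrading n R) _).comp (algebraMap R (CohB1.polyGrading n R 0))

/-- Dehomogenisation into the chart ring. -/
noncomputable def deh₀ (i : Fin (n + 1)) : Poly n R →+* Away (CohB1.polyGrading n R) (X i : Poly n R) :=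
  eval₂Hom (cst n R (X i)) fun j =>
    Away.mk (CohB1.polyGrading n R) (X_mem n R i) 1 (X j) (by rw [one_smul]; exact X_mem n R j)

lemma deh₀_X (i j : Fin (n + 1)) : deh₀ n R i (X j) =
    Away.mk (CohB1.polyGrading n R) (X_mem n R i) 1 (X j) (by rw [one_smul]; exact X_mem n R j) :=
  eval₂Hom_X' _ _ _

lemma val_deh₀_X (i j : Fin (n + 1)) : (deh₀ n R i (X j)).val =
    Localization.mk (X j : Poly n R) (xpw n R i 1) := by
  rw [deh₀_X, Away.val_mk]
  rfl

lemma val_cst (f : Poly n R) (r : R) : (cst n R f r).val = algebraMap (Poly n R) (Localization.Away f) (C r) :=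
  (Localization.mk_one_eq_algebraMap _)

lemma val_deh₀_monomial (i : Fin (n + 1)) (a : Fin (n + 1) →₀ ℕ) (r : R) :
    (deh₀ n R i (monomial a r)).val =
      Localization.mk (monomial a r) (xpw n R i a.degree) := by
  induction a using Finsupp.induction generalizing r with
  | zero =>
    rw [← C_apply, deh₀, eval₂Hom_C, val_cst, ← Localization.mk_one_eq_algebraMap]
    congr 1
  | @single_add j m a _ _ ih =>
    rw [show monomial (Finsupp.single j m + a) r = X j ^ m * monomial a r by
      rw [X_pow_eq_monomial, monomial_mul, one_mul], map_mul, map_pow, HomogeneousLocalization.val_mul,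
      HomogeneousLocalization.val_pow, val_deh₀_X, ih, Localization.mk_pow, Localization.mk_mul]
    congr 1
    refine Subtype.ext ?_
    show ((X i : Poly n R) ^ 1) ^ m * X i ^ a.degree = X i ^ (Finsupp.single j m + a).degree
    rw [pow_one, ← pow_add, map_add, Finsupp.degree_single]

lemma val_deh₀_homogeneous (i : Fin (n + 1)) (p : Poly n R) (m : ℕ) (hp : p.IsHomogeneous m) :
    (deh₀ n R i p).val = Localization.mk p (xpw n R i m) := by
  rw [p.as_sum, map_sum, ← HomogeneousLocalization.algebraMap_apply, map_sum, Localization.mk_sum]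
  refine Finset.sum_congr rfl fun a ha => ?_
  rw [HomogeneousLocalization.algebraMap_apply, val_deh₀_monomial]
  have : a.degree = m := by
    by_contra hne
    exact mem_support_iff.1 ha (hp.coeff_eq_zero hne)
  rw [this]

lemma deh₀_surjective (i : Fin (n + 1)) : Function.Surjective (deh₀ n R i) := fun z => by
  obtain ⟨m, p, hp, rfl⟩ := Away.mk_surjective (CohB1.polyGrading n R) (X_mem n R i) z
  refine ⟨p, HomogeneousLocalization.val_injective _ ?_⟩
  rw [val_deh₀_homogeneous n R i p m ((mem_homogeneousSubmodule _ _).1 (by rwa [smul_eq_mul, mul_one] at hp)), Away.val_mk]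
  rfl

/-- The chart ring as functions on the chart. -/
noncomputable def toSec (i : Fin (n + 1)) :
    Away (CohB1.polyGrading n R) (X i : Poly n R) →+* Γ(CohB1.ProjSpace n R, QCohLib.stdOpen n R i) :=
  (Proj.awayToSection (CohB1.polyGrading n R) (X i : Poly n R)).hom

lemma toSec_bijective (i : Fin (n + 1)) : Function.Bijective (toSec n R i) := by
  have h : IsIso (Proj.awayToSection (CohB1.polyGrading n R) (X i : Poly n R)) := by
    rw [← Proj.basicOpenIsoAway_hom (CohB1.polyGrading n R) (X i : Poly n R) (X_mem n R i) one_pos]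
    infer_instance
  exact ConcreteCategory.bijective_of_isIso (Proj.awayToSection (CohB1.polyGrading n R) (X i : Poly n R))

/-- Dehomogenisation into the regular functions of a chart. -/
noncomputable def deh (i : Fin (n + 1)) : Poly n R →+* Γ(CohB1.ProjSpace n R, QCohLib.stdOpen n R i) :=
  (toSec n R i).comp (deh₀ n R i)

lemma deh_surjective (i : Fin (n + 1)) : Function.Surjective (deh n R i) :=
  (toSec_bijective n R i).2.comp (deh₀_surjective n R i)

lemma deh₀_X_self (i : Fin (n + 1)) : deh₀ n R i (X i) = 1 :=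
  HomogeneousLocalization.val_injective _ (by
    rw [val_deh₀_X, HomogeneousLocalization.val_one]
    exact (congrArg (fun x => Localization.mk x (xpw n R i 1)) (pow_one _).symm).trans (Localization.mk_self (xpw n R i 1)))

lemma deh_X_self (i : Fin (n + 1)) : deh n R i (X i) = 1 := by
  rw [deh, RingHom.comp_apply, deh₀_X_self, map_one]

/-- Restriction of functions. -/
noncomputable abbrev resO {V W : (CohB1.ProjSpace n R).Opens} (h : W ≤ V) :
    Γ(CohB1.ProjSpace n R, V) →+* Γ(CohB1.ProjSpace n R, W) :=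
  ((CohB1.ProjSpace n R).presheaf.map (homOfLE h).op).hom

lemma resO_resO {V W Z : (CohB1.ProjSpace n R).Opens} (h : W ≤ V) (h' : Z ≤ W) (x : Γ(CohB1.ProjSpace n R, V)) :
    resO n R h' (resO n R h x) = resO n R (h'.trans h) x := by
  change ((CohB1.ProjSpace n R).presheaf.map (homOfLE h).op ≫ (CohB1.ProjSpace n R).presheaf.map (homOfLE h').op).hom x = _
  rw [← Functor.map_comp]
  rfl

lemma basicOpen_mul_le_left (i j : Fin (n + 1)) :
    Proj.basicOpen (CohB1.polyGrading n R) ((X i : Poly n R) * X j) ≤ QCohLib.stdOpen n R i :=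
  Proj.basicOpen_mono _ _ _ ⟨_, rfl⟩

lemma basicOpen_mul_le_right (i j : Fin (n + 1)) :
    Proj.basicOpen (CohB1.polyGrading n R) ((X i : Poly n R) * X j) ≤ QCohLib.stdOpen n R j :=
  Proj.basicOpen_mono _ _ _ ⟨_, mul_comm _ _⟩

lemma inf_stdOpen (i j : Fin (n + 1)) :
    QCohLib.stdOpen n R i ⊓ QCohLib.stdOpen n R j = Proj.basicOpen (CohB1.polyGrading n R) ((X i : Poly n R) * X j) :=
  (Proj.basicOpen_mul _ _ _).symm

/-- The change of charts, in the chart ring of the overlap. -/
lemma resO_deh_mul (i j k : Fin (n + 1)) :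
    resO n R (basicOpen_mul_le_left n R i j) (deh n R i (X k)) =
      resO n R (basicOpen_mul_le_right n R i j) (deh n R j (X k)) * resO n R (basicOpen_mul_le_left n R i j) (deh n R i (X j)) := by
  have hl : ∀ a, resO n R (basicOpen_mul_le_left n R i j) (Proj.awayToSection (CohB1.polyGrading n R) (X i : Poly n R) a) =
      Proj.awayToSection (CohB1.polyGrading n R) ((X i : Poly n R) * X j) (awayMap (CohB1.polyGrading n R) (X_mem n R j) rfl a) :=
    fun a => (ConcreteCategory.congr_hom (Proj.awayMap_awayToSection (CohB1.polyGrading n R) (X_mem n R j) rfl) a).symm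
  have hr : ∀ a, resO n R (basicOpen_mul_le_right n R i j) (Proj.awayToSection (CohB1.polyGrading n R) (X j : Poly n R) a) =
      Proj.awayToSection (CohB1.polyGrading n R) ((X i : Poly n R) * X j)
        (awayMap (CohB1.polyGrading n R) (X_mem n R i) (mul_comm (X i : Poly n R) (X j)) a) :=
    fun a => (ConcreteCategory.congr_hom (Proj.awayMap_awayToSection (CohB1.polyGrading n R) (X_mem n R i)
      (mul_comm (X i : Poly n R) (X j))) a).symm
  simp only [deh, toSec, RingHom.comp_apply]
  erw [hl, hr, hl]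
  refine Eq.trans ?_ (map_mul (Proj.awayToSection (CohB1.polyGrading n R) ((X i : Poly n R) * X j)).hom _ _)
  congr 1
  refine HomogeneousLocalization.val_injective _ ?_
  rw [HomogeneousLocalization.val_mul, deh₀_X, deh₀_X, deh₀_X]
  unfold HomogeneousLocalization.Away.mk
  rw [val_awayMap_mk, val_awayMap_mk, val_awayMap_mk, Localization.mk_mul, Localization.mk_eq_mk_iff, Localization.r_iff_exists]
  exact ⟨1, by simp only [OneMemClass.coe_one, Submonoid.coe_mul, one_mul, pow_one]; ring⟩

lemma resO_deh_X (i j k : Fin (n + 1)) {W : (CohB1.ProjSpace n R).Opens}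
    (hi : W ≤ QCohLib.stdOpen n R i) (hj : W ≤ QCohLib.stdOpen n R j) :
    resO n R hi (deh n R i (X k)) = resO n R hj (deh n R j (X k)) * resO n R hi (deh n R i (X j)) := by
  have hW : W ≤ Proj.basicOpen (CohB1.polyGrading n R) ((X i : Poly n R) * X j) := inf_stdOpen n R i j ▸ le_inf hi hj
  have h := congrArg (resO n R hW) (resO_deh_mul n R i j k)
  rw [map_mul, resO_resO, resO_resO, resO_resO] at h
  exact h

lemma deh_X_inv (i j : Fin (n + 1)) {W : (CohB1.ProjSpace n R).Opens}
    (hi : W ≤ QCohLib.stdOpen n R i) (hj : W ≤ QCohLib.stdOpen n R j) :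
    resO n R hj (deh n R j (X i)) * resO n R hi (deh n R i (X j)) = 1 := by
  have h := resO_deh_X n R i j i hi hj
  rwa [deh_X_self, map_one, eq_comm] at h

/-- A chart as a morphism. -/
noncomputable def chartι (i : Fin (n + 1)) :
    Spec (CommRingCat.of (Away (CohB1.polyGrading n R) (X i : Poly n R))) ⟶ CohB1.ProjSpace n R :=
  Proj.awayι (CohB1.polyGrading n R) (X i : Poly n R) (X_mem n R i) one_pos

lemma chartι_le (i : Fin (n + 1)) : ⊤ ≤ chartι n R i ⁻¹ᵁ QCohLib.stdOpen n R i :=
  Groth.Agent.ProjQuot.awayι_le_preimage (X_mem n R i) one_pos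

lemma chartι_appLE_toSec (i : Fin (n + 1)) (a : Away (CohB1.polyGrading n R) (X i : Poly n R)) :
    (chartι n R i).appLE (QCohLib.stdOpen n R i) ⊤ (chartι_le n R i) (toSec n R i a) = (Scheme.ΓSpecIso _).inv a :=
  ConcreteCategory.congr_hom (Groth.Agent.ProjQuot.awayι_appLE_awayToSection (X_mem n R i) one_pos) a

lemma awayι_appLE_deh (i : Fin (n + 1)) (p : Poly n R) :
    (chartι n R i).appLE (QCohLib.stdOpen n R i) ⊤ (chartι_le n R i) (deh n R i p) =
      (Scheme.ΓSpecIso _).inv (deh₀ n R i p) :=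
  chartι_appLE_toSec n R i _

/-- The nonvanishing locus of a coordinate in a chart. -/
lemma basicOpen_deh_X (i j : Fin (n + 1)) :
    (CohB1.ProjSpace n R).basicOpen (deh n R i (X j)) = QCohLib.stdOpen n R i ⊓ QCohLib.stdOpen n R j := by
  let ι := Proj.awayι (CohB1.polyGrading n R) (X i : Poly n R) (X_mem n R i) one_pos
  have hrange : ι.opensRange = QCohLib.stdOpen n R i := Proj.opensRange_awayι _ _ _ _
  have key : ι ⁻¹ᵁ (CohB1.ProjSpace n R).basicOpen (deh n R i (X j)) = ι ⁻¹ᵁ QCohLib.stdOpen n R j := by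
    have h1 := Scheme.basicOpen_appLE (chartι n R i) ⊤ (QCohLib.stdOpen n R i)
      (chartι_le n R i) (deh n R i (X j))
    rw [top_inf_eq] at h1
    erw [awayι_appLE_deh, basicOpen_eq_of_affine'] at h1
    refine h1.symm.trans (Eq.trans ?_ (Proj.awayι_preimage_basicOpen (CohB1.polyGrading n R) (X_mem n R i) one_pos
      (X_mem n R j) one_pos).symm)
    congr 1
    rw [Iso.inv_hom_id_apply, deh₀_X]
    refine HomogeneousLocalization.val_injective _ ?_
    simp only [Away.val_mk, pow_one]
  refine le_antisymm (fun x hx => ?_) (fun x hx => ?_)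
  · have hxi : x ∈ ι.opensRange := hrange ▸ (CohB1.ProjSpace n R).basicOpen_le _ hx
    obtain ⟨y, rfl⟩ := hxi
    exact ⟨(CohB1.ProjSpace n R).basicOpen_le _ hx, (key.le (show y ∈ ι ⁻¹ᵁ _ from hx) : y ∈ ι ⁻¹ᵁ QCohLib.stdOpen n R j)⟩
  · obtain ⟨y, rfl⟩ := (hrange ▸ hx.1 : x ∈ ι.opensRange)
    exact (key.ge (show y ∈ ι ⁻¹ᵁ _ from hx.2) : y ∈ ι ⁻¹ᵁ (CohB1.ProjSpace n R).basicOpen (deh n R i (X j)))

/-- Scalars restricted to an open. -/
noncomputable def cstOn (V : (CohB1.ProjSpace n R).Opens) : R →+* Γ(CohB1.ProjSpace n R, V) :=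
  (resO n R (le_top : V ≤ ⊤)).comp (Coh.toGlobal (CohB1.ProjSpace.toSpec n R))

lemma resO_cstOn {V W : (CohB1.ProjSpace n R).Opens} (h : W ≤ V) (r : R) : resO n R h (cstOn n R V r) = cstOn n R W r :=
  resO_resO n R _ h _

lemma deh_C (i : Fin (n + 1)) (r : R) : deh n R i (C r) = cstOn n R (QCohLib.stdOpen n R i) r := by
  have hle := chartι_le n R i
  have hinj : Function.Injective ((chartι n R i).appLE (QCohLib.stdOpen n R i) ⊤ hle) := by
    intro a b hab
    obtain ⟨x, rfl⟩ := (toSec_bijective n R i).2 a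
    obtain ⟨y, rfl⟩ := (toSec_bijective n R i).2 b
    rw [chartι_appLE_toSec, chartι_appLE_toSec] at hab
    rw [(ConcreteCategory.bijective_of_isIso (Scheme.ΓSpecIso _).inv).1 hab]
  apply hinj
  rw [awayι_appLE_deh, deh₀, eval₂Hom_C]
  have hcomp : chartι n R i ≫ CohB1.ProjSpace.toSpec n R = Spec.map (CommRingCat.ofHom (cst n R (X i))) := by
    rw [CohB1.ProjSpace.toSpec, chartι]
    erw [Proj.awayι_toSpecZero_assoc, ← Spec.map_comp]
    rfl
  have h2 : ((CohB1.ProjSpace.toSpec n R).appTop ≫ (CohB1.ProjSpace n R).presheaf.map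
      (homOfLE (le_top : QCohLib.stdOpen n R i ≤ ⊤)).op) ≫ (chartι n R i).appLE (QCohLib.stdOpen n R i) ⊤ hle =
      (Spec.map (CommRingCat.ofHom (cst n R (X i)))).appTop := by
    rw [Category.assoc, Scheme.Hom.map_appLE, ← hcomp, Scheme.Hom.comp_appTop]
    congr 1
  refine Eq.trans ?_ (ConcreteCategory.congr_hom h2 ((Scheme.ΓSpecIso (CommRingCat.of R)).inv r)).symm
  exact ConcreteCategory.congr_hom (Scheme.ΓSpecIso_inv_naturality (CommRingCat.ofHom (cst n R (X i)))) r

end GradedCechLib
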