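import Groth.Agent.GradedCechLib.Free
import Mathlib.RingTheory.Finiteness.Basic
import Mathlib.RingTheory.Polynomial.Basic

/-!
# Finiteness and vanishing of the Čech cohomology of finitely generated graded modules
-/

universe u

open CategoryTheory CategoryTheory.Limits MvPolynomial

namespace GradedCechLib

variable {R : Type u} [CommRing R] {ι : Type} [Fintype ι] [DecidableEq ι]

section Free

variable (κ : Type) [Fintype κ] (e : κ → ℤ) (d : ℤ)

/-- The comparison on Čech complexes is an isomorphism. -/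
lemma isIso_cxMap_freeIso : IsIso (cxMap (freeIso (R := R) (ι := ι) κ e d)) := by
  haveI : ∀ n, IsIso ((cxMap (freeIso (R := R) (ι := ι) κ e d)).f n) := fun n => by
    rw [ConcreteCategory.isIso_iff_bijective]
    exact Function.Bijective.piMap fun J : Fin (n + 1) → ι => freeIso_app_bijective (R := R) κ e d (rng J)
  exact HomologicalComplex.Hom.isIso_of_components _

/-- Cohomology of a free module, compared with monomials. -/
noncomputable def freeHIso (p : ℕ) : H (locSys (freeGrading R (ι := ι) κ e) d) p ≅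
    H (suppSys R (κ × (ι → ℤ)) (allowed (ι := ι) κ e d) (allowed_mono κ e d)) p :=
  haveI := isIso_cxMap_freeIso (R := R) (ι := ι) κ e d
  (HomologicalComplex.homologyFunctor _ _ p).mapIso (asIso (cxMap (freeIso (R := R) (ι := ι) κ e d)))

theorem finite_H_free [IsNoetherianRing R] (p : ℕ) : Module.Finite R (H (locSys (freeGrading R (ι := ι) κ e) d) p) := by
  suffices Module.Finite R (H (suppSys R _ (allowed (ι := ι) κ e d) (allowed_mono κ e d)) p) by
    exact Module.Finite.equiv (freeHIso (R := R) (ι := ι) κ e d p).toLinearEquiv.symm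
  rcases isEmpty_or_nonempty ι with hι | hι
  · haveI : Subsingleton (H (suppSys R _ (allowed (ι := ι) κ e d) (allowed_mono κ e d)) p) :=
      ModuleCat.subsingleton_of_isZero (isZero_of_card_le _ p (by simp))
    infer_instance
  cases p with
  | zero => exact finite_zero _ _ ((finite_common (ι := ι) κ e d).resolve_right (not_isEmpty_of_nonempty ι))
  | succ p => exact finite_succ _ _ _ (finite_exceptional κ e d) (exists_cone κ e d) p

theorem isZero_H_free [Nonempty ι] (h : ∀ k, -(Fintype.card ι : ℤ) < d + e k) (p : ℕ) :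
    IsZero (H (locSys (freeGrading R (ι := ι) κ e) d) (p + 1)) := by
  refine (isZero_succ_supp _ _ (fun ka => exists_cone κ e d ka fun hka => ?_) p).of_iso (freeHIso κ e d (p + 1))
  have h1 : ∑ i, ka.2 i ≤ ∑ _i : ι, (-1 : ℤ) := Finset.sum_le_sum fun i _ => by have := hka.2 i; omega
  rw [hka.1] at h1
  have := h ka.1
  simp at h1
  omega

end Free

variable {N : Type u} [AddCommGroup N] [Module (MvPolynomial ι R) N] [Module R N] [IsScalarTower R (MvPolynomial ι R) N]
variable (G : Grading R ι N)

lemma monomial_smul_mem (n : ι →₀ ℕ) : ∀ (d : ℤ) (y : N), y ∈ G.piece d →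
    (monomial n (1 : R)) • y ∈ G.piece (d + ∑ i, (n i : ℤ)) := by
  induction n using Finsupp.induction_linear with
  | zero => exact fun d y hy => by simpa using hy
  | add a b ha hb =>
    intro d y hy
    have e : monomial (a + b) (1 : R) = monomial b 1 * monomial a 1 := by rw [monomial_mul, one_mul, add_comm]
    rw [e, mul_smul, show d + ∑ i, ((a + b) i : ℤ) = d + ∑ i, (a i : ℤ) + ∑ i, (b i : ℤ) by
      simp [Finset.sum_add_distrib, add_assoc]]
    exact hb _ _ (ha d y hy)
  | single i m =>
    intro d y hy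
    have e : monomial (Finsupp.single i m) (1 : R) = xs R {i} ^ m := by simp [xs, X_pow_eq_monomial]
    rw [e]
    exact pow_xs_smul_mem G {i} m hy (by simp [Finsupp.single_apply])

/-- The map from a free module given by homogeneous elements. -/
noncomputable def genMap {κ : Type} [Fintype κ] (g : κ → N) : (κ → MvPolynomial ι R) →ₗ[MvPolynomial ι R] N :=
  Fintype.linearCombination (MvPolynomial ι R) g

lemma genMap_isHom {κ : Type} [Fintype κ] (e : κ → ℤ) (g : κ → N) (hg : ∀ k, g k ∈ G.piece (-e k)) :
    IsHom (freeGrading R κ e) G (genMap (R := R) (ι := ι) g) := by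
  intro d y hy
  rw [genMap, Fintype.linearCombination_apply]
  refine sum_mem fun k _ => ?_
  rw [(y k).as_sum, Finset.sum_smul]
  refine sum_mem fun n hn => ?_
  have h1 := hy k n (mem_support_iff.1 hn)
  have h2 := monomial_smul_mem G n (-e k) (g k) (hg k)
  rw [h1, show -e k + (d + e k) = d by ring] at h2
  rw [← mul_one (coeff n (y k)), ← smul_eq_mul, ← smul_monomial, smul_assoc]
  exact Submodule.smul_mem _ _ h2

/-- Finite generation as a graded module. -/
def IsFG : Prop :=
  ∃ (r : ℕ) (e : Fin r → ℤ) (g : Fin r → N), (∀ k, g k ∈ G.piece (-e k)) ∧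
    ∀ d, ∀ y ∈ G.piece d, ∃ f ∈ (freeGrading R (Fin r) e).piece d, genMap (R := R) (ι := ι) g f = y

/-- The graded kernel of a map from a free module. -/
noncomputable def kerGrading {κ : Type} [Fintype κ] (e : κ → ℤ) (g : κ → N) :
    Grading R ι ↥(LinearMap.ker (genMap (R := R) (ι := ι) g)) where
  piece d := ((freeGrading R κ e).piece d).comap ((LinearMap.ker (genMap (R := R) (ι := ι) g)).subtype.restrictScalars R)
  X_smul_mem i d y hy := (freeGrading R κ e).X_smul_mem i d _ hy

omit [DecidableEq ι] in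
variable (R ι) in
/-- The homogeneous part of an integer degree. -/
noncomputable def degPart (d : ℤ) : MvPolynomial ι R →ₗ[R] MvPolynomial ι R :=
  if 0 ≤ d then homogeneousComponent d.toNat else 0

omit [DecidableEq ι] in
lemma coeff_degPart (d : ℤ) (p : MvPolynomial ι R) (n : ι →₀ ℕ) :
    coeff n (degPart R ι d p) = if ∑ i, (n i : ℤ) = d then coeff n p else 0 := by
  have hdeg : ((n.degree : ℕ) : ℤ) = ∑ i, (n i : ℤ) := by
    rw [Finsupp.degree_eq_sum]
    push_cast
    rfl
  unfold degPart
  split_ifs with hd h h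
  · rw [coeff_homogeneousComponent, if_pos (by rw [← hdeg] at h; omega)]
  · rw [coeff_homogeneousComponent, if_neg (fun h' => h (by rw [← hdeg, h']; omega))]
  · exact absurd (h ▸ Finset.sum_nonneg fun i _ => Int.natCast_nonneg (n i)) hd
  · rfl

omit [DecidableEq ι] in
lemma degPart_mul (d e : ℤ) (p q : MvPolynomial ι R) (hq : ∀ n, coeff n q ≠ 0 → ∑ i, (n i : ℤ) = e) :
    degPart R ι d (p * q) = degPart R ι (d - e) p * q := by
  classical
  ext n
  have key : ∀ x ∈ Finset.antidiagonal n, coeff x.2 q ≠ 0 → ∑ i, (n i : ℤ) = ∑ i, (x.1 i : ℤ) + e := fun x hx h0 => by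
    rw [← hq _ h0, ← Finset.sum_add_distrib, ← Finset.HasAntidiagonal.mem_antidiagonal.1 hx]
    simp
  rw [coeff_degPart, coeff_mul, coeff_mul]
  split_ifs with h3
  · refine Finset.sum_congr rfl fun x hx => ?_
    by_cases h0 : coeff x.2 q = 0
    · simp [h0]
    · have := key x hx h0
      rw [coeff_degPart, if_pos (by omega)]
  · refine (Finset.sum_eq_zero fun x hx => ?_).symm
    by_cases h0 : coeff x.2 q = 0
    · simp [h0]
    · have := key x hx h0
      rw [coeff_degPart, if_neg (by omega), zero_mul]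

lemma kerGrading_isFG [IsNoetherianRing R] {κ : Type} [Fintype κ] (e : κ → ℤ) (g : κ → N) :
    IsFG (kerGrading (R := R) (ι := ι) e g) := by
  classical
  let K := LinearMap.ker (genMap (R := R) (ι := ι) g)
  let Hom : Set K := {y | ∃ d, (y : κ → MvPolynomial ι R) ∈ (freeGrading R κ e).piece d}
  haveI : IsNoetherian (MvPolynomial ι R) K := inferInstance
  obtain ⟨t, htH, ht⟩ := Submodule.fg_span_iff_fg_span_finset_subset Hom |>.1 (IsNoetherian.noetherian (Submodule.span (MvPolynomial ι R) Hom))
  let r := t.card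
  let gg : Fin r → K := fun k => (t.equivFin.symm k : K)
  have hgg : ∀ k, ∃ d, ((gg k : K) : κ → MvPolynomial ι R) ∈ (freeGrading R κ e).piece d := fun k => htH (t.equivFin.symm k).2
  choose dd hdd using hgg
  refine ⟨r, fun k => -dd k, gg, fun k => by rw [neg_neg]; exact hdd k, fun d y hy => ?_⟩
  have hyt : y ∈ Submodule.span (MvPolynomial ι R) (Set.range gg) := by
    have hr : Set.range gg = (t : Set K) := by
      ext z
      refine ⟨by rintro ⟨k, rfl⟩; exact (t.equivFin.symm k).2, fun hz => ⟨t.equivFin ⟨z, hz⟩, by simp [gg]⟩⟩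
    rw [hr, ← ht]
    exact Submodule.subset_span ⟨d, hy⟩
  obtain ⟨c, hc⟩ := (Submodule.mem_span_range_iff_exists_fun (MvPolynomial ι R)).1 hyt
  refine ⟨fun k => degPart R ι (d - dd k) (c k), fun k n hn => ?_, ?_⟩
  · rw [coeff_degPart] at hn
    split_ifs at hn with h
    · rw [h]; ring
    · exact absurd rfl hn
  · apply Subtype.ext
    funext k
    show ((∑ l, degPart R ι (d - dd l) (c l) • gg l : K) : κ → MvPolynomial ι R) k = (y : κ → MvPolynomial ι R) k
    have h1 : (y : κ → MvPolynomial ι R) k = degPart R ι (d + e k) ((y : κ → MvPolynomial ι R) k) := by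
      ext n
      rw [coeff_degPart]
      split_ifs with h
      · rfl
      · exact by_contra fun hne => h (hy k n hne)
    rw [h1]
    have h2 : (y : κ → MvPolynomial ι R) k = ∑ l, c l * (gg l : κ → MvPolynomial ι R) k := by
      rw [← hc, Submodule.coe_sum, Finset.sum_apply]
      rfl
    rw [h2, map_sum, Submodule.coe_sum, Finset.sum_apply]
    refine Finset.sum_congr rfl fun l _ => ?_
    rw [degPart_mul (d + e k) (dd l + e k) _ _ (fun n hn => hdd l k n hn)]
    show degPart R ι (d - dd l) (c l) * _ = _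
    congr 2
    ring_nf

lemma grExact_gen {r : ℕ} (e : Fin r → ℤ) (g : Fin r → N) (hg : ∀ k, g k ∈ G.piece (-e k))
    (hgen : ∀ d, ∀ y ∈ G.piece d, ∃ f ∈ (freeGrading R (Fin r) e).piece d, genMap (R := R) (ι := ι) g f = y) :
    GrExact (kerGrading e g) (freeGrading R (Fin r) e) G (LinearMap.ker (genMap (R := R) (ι := ι) g)).subtype (genMap g) where
  hom_left _ _ hy := hy
  hom_right := genMap_isHom G e g hg
  inj := Subtype.val_injective
  zero y := y.2
  surj := hgen
  exact _ y hy h := ⟨⟨y, h⟩, hy, rfl⟩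

theorem isZero_H_of_card_le (d : ℤ) (p : ℕ) (hp : Fintype.card ι ≤ p) : IsZero (H (locSys G d) p) :=
  isZero_of_card_le _ p hp

/-- **Finiteness.** -/
theorem finite_H [IsNoetherianRing R] (hG : IsFG G) (d : ℤ) (p : ℕ) : Module.Finite R (H (locSys G d) p) := by
  by_cases hp : Fintype.card ι ≤ p
  · haveI := ModuleCat.subsingleton_of_isZero (isZero_H_of_card_le G d p hp)
    infer_instance
  obtain ⟨j, hj⟩ : ∃ j, j = Fintype.card ι - p := ⟨_, rfl⟩
  clear hp
  induction j generalizing p N with
  | zero =>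
    haveI := ModuleCat.subsingleton_of_isZero (isZero_H_of_card_le G d p (by omega))
    infer_instance
  | succ j ih =>
    obtain ⟨r, e, g, hg, hgen⟩ := hG
    exact finite_right (exact3_sys (grExact_gen G e g hg hgen) d) p (finite_H_free (Fin r) e d p)
      (ih (kerGrading e g) (kerGrading_isFG e g) (p + 1) (by omega))

/-- **Vanishing in high degrees.** -/
theorem exists_isZero_H [IsNoetherianRing R] [Nonempty ι] (hG : IsFG G) (p : ℕ) :
    ∃ d₀ : ℤ, ∀ d, d₀ ≤ d → IsZero (H (locSys G d) (p + 1)) := by
  obtain ⟨j, hj⟩ : ∃ j, j = Fintype.card ι - (p + 1) := ⟨_, rfl⟩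
  induction j generalizing p N with
  | zero => exact ⟨0, fun d _ => isZero_H_of_card_le G d (p + 1) (by omega)⟩
  | succ j ih =>
    obtain ⟨r, e, g, hg, hgen⟩ := hG
    obtain ⟨d₁, hd₁⟩ := ih (kerGrading e g) (kerGrading_isFG e g) (p + 1) (by omega)
    refine ⟨max d₁ (∑ k, |e k|), fun d hd => ?_⟩
    refine isZero_right (exact3_sys (grExact_gen G e g hg hgen) d) (p + 1) (isZero_H_free (Fin r) e d (fun k => ?_) p)
      (hd₁ d (le_trans (le_max_left _ _) hd))
    have h1 : |e k| ≤ ∑ k, |e k| := Finset.single_le_sum (f := fun k => |e k|) (fun i _ => abs_nonneg _) (Finset.mem_univ k)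
    have h2 := le_trans h1 (le_trans (le_max_right d₁ _) hd)
    have h3 := neg_abs_le (e k)
    have h4 : (0 : ℤ) < Fintype.card ι := by exact_mod_cast Fintype.card_pos
    omega

end GradedCechLib
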