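import Groth.Agent.GradedCechLib.Compare
import Groth.Agent.GradedCechLib.Finite

/-!
# Finiteness and vanishing on projective space
-/

universe u

open CategoryTheory CategoryTheory.Limits AlgebraicGeometry Opposite TopologicalSpace MvPolynomial

namespace GradedCechLib

variable {n : ℕ} {R : Type u} [CommRing R]

local notation "UU" => QCohLib.stdOpen n R

/-- A map of systems bijective on nonempty sets is an isomorphism on cohomology. -/
noncomputable def hIsoOfBijective {ι : Type} [Fintype ι] [DecidableEq ι] {L L' : Sys R ι} (φ : L ⟶ L')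
    (h : ∀ s : Finset ι, s.Nonempty → Function.Bijective (φ.app s).hom) (p : ℕ) : H L p ≅ H L' p :=
  have : ∀ q, IsIso ((cxMap φ).f q) := fun q => by
    rw [ConcreteCategory.isIso_iff_bijective]
    exact Function.Bijective.piMap fun J : Fin (q + 1) → ι => h (rng J) (rng_nonempty J)
  haveI := HomologicalComplex.Hom.isIso_of_components (cxMap φ)
  (HomologicalComplex.homologyFunctor _ _ p).mapIso (asIso (cxMap φ))

/-- **Finiteness of coherent cohomology on projective space.** -/
theorem finite_HH [IsNoetherianRing R] (M : (CohB1.ProjSpace n R).Modules) (hM : Coh.IsCoh M) (p : ℕ) :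
    Module.Finite R (Coh.HH (CohB1.ProjSpace n R) M p) := by
  have : Coh.IsQCoh M := hM.1
  obtain ⟨r, e, g, hg, hgen⟩ := exists_generators M hM.2
  refine finite_HH_of_finite M p ?_
  have := finite_H (genGrading M e g) (isFG_genGrading M e g) 0 p
  exact Module.Finite.equiv (hIsoOfBijective (genSys M e g hg) (genSys_bijective M e g hg hgen) p).toLinearEquiv

lemma eq_zero_of_X_pow_mul (i : Fin (n + 1)) (k : ℕ) (p : Poly n R) (h : X i ^ k * p = 0) : p = 0 := by
  ext a
  have := congrArg (coeff (Finsupp.single i k + a)) h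
  rwa [X_pow_eq_monomial, coeff_monomial_mul, one_mul, coeff_zero] at this

lemma deh_injective_homogeneous (i : Fin (n + 1)) (p : Poly n R) (m : ℕ) (hp : p.IsHomogeneous m)
    (h : deh n R i p = 0) : p = 0 := by
  have h0 : deh₀ n R i p = 0 := (toSec_bijective n R i).1 (h.trans (map_zero _).symm)
  have h1 := congrArg HomogeneousLocalization.val h0
  rw [val_deh₀_homogeneous n R i p m hp, HomogeneousLocalization.val_zero] at h1
  obtain ⟨⟨c, k, rfl⟩, hc⟩ := (IsLocalization.mk'_eq_zero_iff (S := Localization.Away (X i : Poly n R)) p (xpw n R i m)).1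
    (by rwa [← Localization.mk_eq_mk'])
  exact eq_zero_of_X_pow_mul i k p hc

/-- A function as a section of the structure module. -/
noncomputable def oS {V : (CohB1.ProjSpace n R).Opens} :
    Γ(CohB1.ProjSpace n R, V) ≃+ Γ(Coh.structureModule (CohB1.ProjSpace n R), V) := AddEquiv.refl _

lemma rsM_oS {V W : (CohB1.ProjSpace n R).Opens} (h : W ≤ V) (x : Γ(CohB1.ProjSpace n R, V)) :
    rsM (Coh.structureModule (CohB1.ProjSpace n R)) h (oS x) = oS (resO n R h x) := rfl

lemma smul_oS {V : (CohB1.ProjSpace n R).Opens} (a b : Γ(CohB1.ProjSpace n R, V)) :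
    a • (oS b : Γ(Coh.structureModule (CohB1.ProjSpace n R), V)) = oS (a * b) := rfl

variable (n R) in
/-- The unit section of the structure module, as a family. -/
noncomputable def oneFam : Fam (Coh.structureModule (CohB1.ProjSpace n R)) :=
  fun i => (toΓ _).symm (oS (1 : Γ(CohB1.ProjSpace n R, UU i)))

lemma oneFam_mem : oneFam n R ∈ (famGrading (Coh.structureModule (CohB1.ProjSpace n R))).piece 0 := fun i j W hi hj => by
  rw [zpow_zero, Units.val_one, one_smul, oneFam, AddEquiv.apply_symm_apply]
  erw [AddEquiv.apply_symm_apply, rsM_oS, rsM_oS]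

lemma genMap_one_apply (y : Fin 1 → Poly n R) (i : Fin (n + 1)) :
    toΓ _ (genMap (R := R) (ι := Fin (n + 1)) (fun _ : Fin 1 => oneFam n R) y i) = oS (deh n R i (y 0)) := by
  rw [genMap, Fintype.linearCombination_apply, Fin.sum_univ_one, Pi.smul_apply, toΓ_smul, resO_self, oneFam,
    AddEquiv.apply_symm_apply, smul_oS, mul_one]

lemma genMap_one_injective (d : ℤ) (y : Fin 1 → Poly n R) (hy : y ∈ (freeGrading R (Fin 1) (fun _ => (0 : ℤ))).piece d)
    (h : genMap (R := R) (ι := Fin (n + 1)) (fun _ : Fin 1 => oneFam n R) y = 0) : y = 0 := by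
  funext k
  obtain rfl : k = 0 := Subsingleton.elim _ _
  refine deh_injective_homogeneous 0 (y 0) d.toNat (fun a ha => ?_) ?_
  · have h1 := hy 0 a ha
    rw [add_zero] at h1
    have h2 : ((Finsupp.weight (1 : Fin (n + 1) → ℕ)) a : ℤ) = ∑ i, (a i : ℤ) := by
      rw [Finsupp.weight_apply, Finsupp.sum_fintype _ _ (fun i => by simp)]
      simp
    omega
  · apply (oS (n := n) (R := R)).injective
    rw [← genMap_one_apply, h]
    rfl

/-- The generated system of the structure sheaf is free. -/
theorem exists_free_iso (p : ℕ) : Nonempty (H (locSys (freeGrading R (ι := Fin (n + 1)) (Fin 1) (fun _ => (0 : ℤ))) 0) p ≅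
    H (secSys (Coh.structureModule (CohB1.ProjSpace n R))) p) := by
  have : Coh.IsQCoh (Coh.structureModule (CohB1.ProjSpace n R)) := QCohLib.isQCoh_unit
  let M := Coh.structureModule (CohB1.ProjSpace n R)
  let g : Fin 1 → Fam M := fun _ => oneFam n R
  let e : Fin 1 → ℤ := fun _ => 0
  have hg : ∀ k, g k ∈ (famGrading M).piece (-e k) := fun k => by
    rw [show -e k = 0 from neg_zero]; exact oneFam_mem
  have hgen : ∀ (i : Fin (n + 1)) (t : Γ(M, UU i)), ∃ c : Fin 1 → Poly n R, ∑ k, deh n R i (c k) • toΓ M (g k i) = t :=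
    fun i t => by
      obtain ⟨q, hq⟩ := deh_surjective n R i (oS.symm t)
      refine ⟨fun _ => q, ?_⟩
      rw [Fin.sum_univ_one]
      show deh n R i q • toΓ M ((toΓ M).symm (oS 1)) = t
      rw [AddEquiv.apply_symm_apply, smul_oS, mul_one, hq, AddEquiv.apply_symm_apply]
  have hhom : IsHom (freeGrading R (Fin 1) e) (genGrading M e g) (genMap (R := R) (ι := Fin (n + 1)) g) :=
    fun d y hy => ⟨y, hy, rfl⟩
  have hbij : ∀ s : Finset (Fin (n + 1)),
      Function.Bijective ((sysMap (freeGrading R (Fin 1) e) (genGrading M e g) _ hhom 0).app s).hom := fun s => by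
    constructor
    · refine (injective_iff_map_eq_zero _).2 ?_
      intro (z : locPiece (freeGrading R (Fin 1) e) 0 s) hz
      obtain ⟨m, y, hy, hy'⟩ := z.2
      have h1 : locMap (genMap (R := R) (ι := Fin (n + 1)) g) s (z : Loc R (Fin 1 → Poly n R) s) = 0 := congrArg Subtype.val hz
      rw [hy', locMap_frac, show (0 : Loc R (Fam M) s) = frac s 0 0 from (LocalizedModule.zero_mk _).symm, frac_eq_frac_iff] at h1
      obtain ⟨k, hk⟩ := h1
      rw [smul_zero, k.add_zero, ← map_smul] at hk
      have h2 := genMap_one_injective _ _ (pow_xs_smul_mem (freeGrading R (Fin 1) e) s k hy rfl) hk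
      refine Subtype.ext ?_
      show (z : Loc R (Fin 1 → Poly n R) s) = 0
      rw [hy', show (0 : Loc R (Fin 1 → Poly n R) s) = frac s 0 0 from (LocalizedModule.zero_mk _).symm, frac_eq_frac_iff]
      exact ⟨k, by rw [smul_zero, k.add_zero, h2]⟩
    · intro (z : locPiece (genGrading M e g) 0 s)
      obtain ⟨m, _, ⟨y, hy, rfl⟩, hz⟩ := z.2
      exact ⟨⟨frac s y m, m, y, hy, rfl⟩, Subtype.ext ((locMap_frac _ s y m).trans hz.symm)⟩
  exact ⟨hIsoOfBijective (sysMap _ _ _ hhom 0 ≫ genSys M e g hg)
    (fun s hs => (genSys_bijective M e g hg hgen s hs).comp (hbij s)) p⟩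

/-- **Vanishing for the structure sheaf.** -/
theorem subsingleton_HH_structure (p : ℕ) :
    Subsingleton (Coh.HH (CohB1.ProjSpace n R) (Coh.structureModule (CohB1.ProjSpace n R)) (p + 1)) := by
  have : Coh.IsQCoh (Coh.structureModule (CohB1.ProjSpace n R)) := QCohLib.isQCoh_unit
  obtain ⟨e, -⟩ := exists_HH_equiv (Coh.structureModule (CohB1.ProjSpace n R)) (p + 1)
  obtain ⟨i⟩ := exists_free_iso (n := n) (R := R) (p + 1)
  have := ModuleCat.subsingleton_of_isZero ((isZero_H_free (R := R) (ι := Fin (n + 1)) (Fin 1) (fun _ => (0 : ℤ)) 0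
    (fun k => by simp; omega) p).of_iso i.symm)
  exact e.symm.injective.subsingleton

lemma X_pow_dvd_of_eq {i j : Fin (n + 1)} (hij : i ≠ j) (D : ℕ) (p q : Poly n R) (h : X j ^ D * p = X i ^ D * q)
    (a : Fin (n + 1) →₀ ℕ) (ha : a i < D) : coeff a p = 0 := by
  have h1 := congrArg (coeff (Finsupp.single j D + a)) h
  rw [X_pow_eq_monomial, X_pow_eq_monomial, coeff_monomial_mul, one_mul, coeff_monomial_mul'] at h1
  rw [if_neg] at h1
  · exact h1
  · intro hle
    have := hle i
    simp [Finsupp.single_eq_of_ne hij] at this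
    omega

variable (n R) in
/-- Constants as functions on the whole space. -/
noncomputable abbrev toTop : R →+* Γ(CohB1.ProjSpace n R, ⊤) := Coh.toGlobal (CohB1.ProjSpace.toSpec n R)

lemma toGlobal_res (r : R) (i : Fin (n + 1)) :
    resO n R (le_top : UU i ≤ ⊤) (toTop n R r) = deh n R i (C r) :=
  (deh_C n R i r).symm

/-- **Global functions on projective space are constants.** -/
theorem toTop_bijective : Function.Bijective (toTop n R) := by
  refine ⟨(injective_iff_map_eq_zero _).2 fun r hr => ?_, fun f => ?_⟩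
  · have h := toGlobal_res (n := n) r 0
    rw [hr, map_zero] at h
    exact C_injective _ _ ((deh_injective_homogeneous 0 _ 0 (isHomogeneous_C _ r) h.symm).trans C_0.symm)
  choose p hp using fun i => deh_surjective n R i (resO n R (le_top : UU i ≤ ⊤) f)
  choose B hB using fun i => exists_homogenization i (p i)
  obtain ⟨D, hD⟩ : ∃ D : ℕ, ∀ i, B i ≤ D :=
    ⟨(∑ i, |B i|).toNat, fun i => by
      have h1 : |B i| ≤ ∑ l, |B l| := Finset.single_le_sum (f := fun l => |B l|) (fun _ _ => abs_nonneg _) (Finset.mem_univ i)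
      have h2 := le_abs_self (B i)
      omega⟩
  choose q hq hqp using fun i => hB i D (hD i)
  have hhom : ∀ i, (q i).IsHomogeneous D := fun i a ha => by
    have h1 := hq i a ha
    have h2 : ((Finsupp.weight (1 : Fin (n + 1) → ℕ)) a : ℤ) = ∑ l, (a l : ℤ) := by
      rw [Finsupp.weight_apply, Finsupp.sum_fintype _ _ (fun l => by simp)]
      simp
    omega
  have hfam : ∀ l, (genMap (R := R) (ι := Fin (n + 1)) (fun _ : Fin 1 => oneFam n R) fun _ => q l) ∈
      (famGrading (Coh.structureModule (CohB1.ProjSpace n R))).piece D := fun l =>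
    genMap_isHom _ (fun _ => 0) _ (fun _ => by rw [neg_zero]; exact oneFam_mem) D _
      (fun _ a ha => (hq l a ha).trans (add_zero _).symm)
  have : Coh.IsQCoh (Coh.structureModule (CohB1.ProjSpace n R)) := QCohLib.isQCoh_unit
  have key : ∀ i j, X j ^ D * q i = X i ^ D * q j := fun i j => by
    have h1 : rsM (Coh.structureModule (CohB1.ProjSpace n R)) (inf_le_left : UU i ⊓ UU j ≤ UU i)
        (oS (deh n R i (X j ^ D * q i - X i ^ D * q j))) = 0 := by
      have h2 := hfam j i j (UU i ⊓ UU j) inf_le_left inf_le_right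
      rw [genMap_one_apply, genMap_one_apply, zpow_natCast, Units.val_pow_eq_pow_val, rsM_oS, rsM_oS, smul_oS,
        EmbeddingLike.apply_eq_iff_eq] at h2
      change resO n R inf_le_left (deh n R i (q j)) = resO n R inf_le_left (deh n R i (X j)) ^ D *
        resO n R inf_le_right (deh n R j (q j)) at h2
      rw [rsM_oS, map_sub, map_mul, map_mul, map_pow, map_pow, deh_X_self, one_pow, one_mul, map_sub, map_mul, map_pow,
        h2, hqp, hqp, hp, hp, resO_resO, resO_resO, sub_self, map_zero]
    obtain ⟨k, hk⟩ := eq_zero_chart (Coh.structureModule (CohB1.ProjSpace n R)) (isAffineOpen_stdOpen i) (deh n R i (X j))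
      inf_le_left (basicOpen_deh_X n R i j) _ h1
    rw [smul_oS, EmbeddingLike.map_eq_zero_iff] at hk
    rw [← map_pow, ← map_mul] at hk
    refine sub_eq_zero.1 (eq_zero_of_X_pow_mul j k _ (deh_injective_homogeneous i _ (k + (D + D)) ?_ hk))
    exact (isHomogeneous_X_pow j k).mul (((isHomogeneous_X_pow j D).mul (hhom i)).sub ((isHomogeneous_X_pow i D).mul (hhom j)))
  have hsup : ∀ i, q i = C (coeff (Finsupp.single i D) (q i)) * X i ^ D := fun i => by
    ext a
    rw [X_pow_eq_monomial, C_mul_monomial, mul_one, coeff_monomial]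
    split_ifs with h
    · rw [h]
    · by_contra hne
      have h1 := hq i a hne
      rw [← Finset.add_sum_erase _ _ (Finset.mem_univ i)] at h1
      by_cases hz : ∀ j ∈ Finset.univ.erase i, a j = 0
      · refine h (Finsupp.ext fun j => ?_)
        rcases eq_or_ne i j with rfl | hij
        · rw [Finset.sum_eq_zero (fun j hj => by rw [hz j hj]; rfl), add_zero] at h1
          rw [Finsupp.single_eq_same]
          omega
        · rw [Finsupp.single_eq_of_ne hij.symm, hz j (by simp [hij.symm])]
      · push Not at hz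
        obtain ⟨j, hj, hj0⟩ := hz
        refine hne (X_pow_dvd_of_eq (Finset.mem_erase.1 hj).1.symm D _ _ (key i j) a ?_)
        have h3 : (a j : ℤ) ≤ ∑ l ∈ Finset.univ.erase i, (a l : ℤ) :=
          Finset.single_le_sum (f := fun l => (a l : ℤ)) (fun _ _ => Int.natCast_nonneg _) hj
        omega
  refine ⟨coeff (Finsupp.single 0 D) (q 0), ?_⟩
  refine TopCat.Sheaf.eq_of_locally_eq' (CohB1.ProjSpace n R).sheaf (fun i => UU i) ⊤ (fun i => homOfLE le_top)
    (QCohLib.iSup_stdOpen n R).ge _ _ fun i => ?_
  show resO n R le_top (toTop n R _) = resO n R le_top _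
  rw [toGlobal_res, ← hp i, ← hqp i]
  have h1 := key i 0
  rw [hsup i, hsup 0] at h1
  have h2 := congrArg (coeff (Finsupp.single i D + Finsupp.single 0 D)) h1
  simp only [X_pow_eq_monomial, C_mul_monomial, monomial_mul, mul_one, one_mul, coeff_monomial] at h2
  rw [if_pos (add_comm _ _), if_pos trivial] at h2
  rw [← h2]
  conv_rhs => rw [hsup i, map_mul, map_pow, deh_X_self, one_pow, mul_one]

end GradedCechLib
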