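import Groth.Agent.GradedCechLib.System
import Mathlib.RingTheory.MvPolynomial.Basic
import Mathlib.Algebra.Module.LocalizedModule.Basic

/-!
# Degree pieces of the localisations of graded modules over a polynomial ring
-/

universe u

open CategoryTheory MvPolynomial

namespace GradedCechLib

variable {R : Type u} [CommRing R] {ι : Type} [Fintype ι] [DecidableEq ι]

/-- Pieces of a graded module over the polynomial ring. -/
structure Grading (R : Type u) [CommRing R] (ι : Type) (N : Type u) [AddCommGroup N] [Module (MvPolynomial ι R) N] [Module R N]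
    [IsScalarTower R (MvPolynomial ι R) N] where
  piece : ℤ → Submodule R N
  X_smul_mem : ∀ (i : ι) (d : ℤ), ∀ y ∈ piece d, (X i : MvPolynomial ι R) • y ∈ piece (d + 1)

variable {N N' N'' : Type u} [AddCommGroup N] [Module (MvPolynomial ι R) N] [Module R N] [IsScalarTower R (MvPolynomial ι R) N]
  [AddCommGroup N'] [Module (MvPolynomial ι R) N'] [Module R N'] [IsScalarTower R (MvPolynomial ι R) N']
  [AddCommGroup N''] [Module (MvPolynomial ι R) N''] [Module R N''] [IsScalarTower R (MvPolynomial ι R) N'']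

variable (R) in
/-- The product of the variables of a set. -/
noncomputable def xs (s : Finset ι) : MvPolynomial ι R := ∏ i ∈ s, X i

lemma xs_mul_sdiff {s t : Finset ι} (h : s ⊆ t) : xs R s * xs R (t \ s) = xs R t := by
  rw [mul_comm]
  exact Finset.prod_sdiff h

variable (G : Grading R ι N)

lemma xs_smul_mem (s : Finset ι) : ∀ (d : ℤ) (y : N), y ∈ G.piece d → xs R s • y ∈ G.piece (d + s.card) := by
  induction s using Finset.induction_on with
  | empty => exact fun d y hy => by simpa [xs] using hy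
  | @insert a s ha ih =>
    intro d y hy
    rw [xs, Finset.prod_insert ha, mul_smul, Finset.card_insert_of_notMem ha, Nat.cast_add, Nat.cast_one, ← add_assoc]
    exact G.X_smul_mem a _ _ (ih d y hy)

lemma pow_xs_smul_mem (s : Finset ι) (m : ℕ) : ∀ {d d' : ℤ} {y : N}, y ∈ G.piece d → d' = d + m * (s.card : ℤ) →
    xs R s ^ m • y ∈ G.piece d' := by
  induction m with
  | zero => intro d d' y hy hd; simpa [hd] using hy
  | succ m ih =>
    intro d d' y hy hd
    rw [pow_succ', mul_smul, show d' = d + m * (s.card : ℤ) + s.card by rw [hd]; push_cast; ring]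
    exact xs_smul_mem G s _ _ (ih hy rfl)

/-- Localisation at the variables of a set. -/
abbrev Loc (R : Type u) [CommRing R] {ι : Type} (N : Type u) [AddCommGroup N] [Module (MvPolynomial ι R) N] (s : Finset ι) : Type u :=
  LocalizedModule (Submonoid.powers (xs R s)) N

variable (R) in
/-- A power of the product of the variables of a set. -/
noncomputable def pw (s : Finset ι) (m : ℕ) : Submonoid.powers (xs R s) :=
  ⟨xs R s ^ m, pow_mem (Submonoid.mem_powers _) m⟩

/-- A fraction. -/
noncomputable def frac (s : Finset ι) (y : N) (m : ℕ) : Loc R N s := LocalizedModule.mk y (pw R s m)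

lemma frac_eq_frac_iff {s : Finset ι} {y y' : N} {m m' : ℕ} :
    frac (R := R) s y m = frac s y' m' ↔ ∃ k, xs R s ^ (k + m') • y = xs R s ^ (k + m) • y' := by
  rw [frac, frac, LocalizedModule.mk_eq]
  constructor
  · rintro ⟨⟨_, k, rfl⟩, hk⟩
    exact ⟨k, by simpa [pw, Submonoid.smul_def, pow_add, mul_smul] using hk⟩
  · rintro ⟨k, hk⟩
    exact ⟨⟨_, k, rfl⟩, by simpa [pw, Submonoid.smul_def, pow_add, mul_smul] using hk⟩

lemma frac_mul (s : Finset ι) (y : N) (m k : ℕ) : frac (R := R) s (xs R s ^ k • y) (m + k) = frac s y m :=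
  frac_eq_frac_iff.2 ⟨0, by rw [zero_add, zero_add, ← mul_smul, ← pow_add]⟩

lemma frac_add (s : Finset ι) (y y' : N) (m m' : ℕ) :
    frac (R := R) s y m + frac s y' m' = frac s (xs R s ^ m' • y + xs R s ^ m • y') (m + m') := by
  rw [frac, frac, frac, LocalizedModule.mk_add_mk]
  congr 1
  exact Subtype.ext (pow_add _ _ _).symm

lemma smul_frac (s : Finset ι) (r : R) (y : N) (m : ℕ) : r • frac (R := R) s y m = frac s (r • y) m := by
  rw [← algebraMap_smul (MvPolynomial ι R) r (frac s y m), frac, LocalizedModule.smul'_mk, algebraMap_smul]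
  rfl

/-- The degree `d` part of a localisation. -/
noncomputable def locPiece (d : ℤ) (s : Finset ι) : Submodule R (Loc R N s) where
  carrier := {z | ∃ (m : ℕ) (y : N), y ∈ G.piece (d + m * (s.card : ℤ)) ∧ z = frac s y m}
  zero_mem' := ⟨0, 0, zero_mem _, (LocalizedModule.zero_mk _).symm⟩
  add_mem' := by
    rintro _ _ ⟨m, y, hy, rfl⟩ ⟨m', y', hy', rfl⟩
    refine ⟨m + m', _, add_mem (pow_xs_smul_mem G s m' hy (by push_cast; ring)) (pow_xs_smul_mem G s m hy' (by push_cast; ring)),
      frac_add s y y' m m'⟩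
  smul_mem' := by
    rintro r _ ⟨m, y, hy, rfl⟩
    exact ⟨m, r • y, Submodule.smul_mem _ r hy, smul_frac s r y m⟩

lemma isUnit_xs_of_subset {s t : Finset ι} (h : s ⊆ t) (x : Submonoid.powers (xs R s)) :
    IsUnit (algebraMap (MvPolynomial ι R) (Module.End (MvPolynomial ι R) (Loc R N t)) x) := by
  obtain ⟨_, m, rfl⟩ := x
  have h1 := IsLocalizedModule.map_units (LocalizedModule.mkLinearMap (Submonoid.powers (xs R t)) N) (pw R t m)
  simp only [pw] at h1 ⊢
  rw [show xs R t ^ m = xs R s ^ m * xs R (t \ s) ^ m by rw [← mul_pow, xs_mul_sdiff h], map_mul] at h1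
  exact (((Commute.all (xs R s ^ m) (xs R (t \ s) ^ m)).map
    (algebraMap (MvPolynomial ι R) (Module.End (MvPolynomial ι R) (Loc R N t)))).isUnit_mul_iff.1 h1).1

/-- Transition map. -/
noncomputable def transLin {s t : Finset ι} (h : s ⊆ t) : Loc R N s →ₗ[MvPolynomial ι R] Loc R N t :=
  LocalizedModule.lift _ (LocalizedModule.mkLinearMap _ N) (isUnit_xs_of_subset h)

lemma transLin_mkLinearMap {s t : Finset ι} (h : s ⊆ t) (y : N) :
    transLin (R := R) h (LocalizedModule.mkLinearMap (Submonoid.powers (xs R s)) N y) =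
      LocalizedModule.mkLinearMap (Submonoid.powers (xs R t)) N y :=
  LinearMap.congr_fun (LocalizedModule.lift_comp _ _ (isUnit_xs_of_subset h)) y

lemma transLin_frac {s t : Finset ι} (h : s ⊆ t) (y : N) (m : ℕ) :
    transLin (R := R) h (frac s y m) = frac t (xs R (t \ s) ^ m • y) m := by
  apply ((Module.End.isUnit_iff _).1 (isUnit_xs_of_subset h (pw R s m))).1
  simp only [Module.algebraMap_end_apply]
  have e1 : ((pw R s m : Submonoid.powers (xs R s)) : MvPolynomial ι R) • frac (R := R) s y m =
      LocalizedModule.mkLinearMap _ N y := by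
    rw [frac, LocalizedModule.smul'_mk]
    exact LocalizedModule.mk_cancel (pw R s m) y
  have e2 : ((pw R s m : Submonoid.powers (xs R s)) : MvPolynomial ι R) • frac (R := R) t (xs R (t \ s) ^ m • y) m =
      LocalizedModule.mkLinearMap _ N y := by
    rw [frac, LocalizedModule.smul'_mk, ← mul_smul, show ((pw R s m : Submonoid.powers (xs R s)) : MvPolynomial ι R) *
      xs R (t \ s) ^ m = ((pw R t m : Submonoid.powers (xs R t)) : MvPolynomial ι R) by simp only [pw, ← mul_pow, xs_mul_sdiff h]]
    exact LocalizedModule.mk_cancel (pw R t m) y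
  rw [← map_smul, e1, e2]
  exact transLin_mkLinearMap h y

lemma transLin_mem (d : ℤ) {s t : Finset ι} (h : s ⊆ t) (z : Loc R N s) (hz : z ∈ locPiece G d s) :
    transLin h z ∈ locPiece G d t := by
  obtain ⟨m, y, hy, rfl⟩ := hz
  refine ⟨m, _, pow_xs_smul_mem G (t \ s) m hy ?_, transLin_frac h y m⟩
  rw [← Finset.card_sdiff_add_card_eq_card h]
  push_cast
  ring

/-- The system of degree `d` parts of the localisations. -/
noncomputable def locSys (d : ℤ) : Sys R ι where
  obj s := ModuleCat.of R (locPiece G d s)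
  map {s t} f := ModuleCat.ofHom (((transLin (leOfHom f)).restrictScalars R).restrict (p := locPiece G d s) (q := locPiece G d t)
    fun z hz => transLin_mem G d (leOfHom f) z hz)
  map_id s := ModuleCat.hom_ext (LinearMap.ext fun (z : locPiece G d s) => Subtype.ext (by
    obtain ⟨m, y, -, hz⟩ := z.2
    show transLin (le_refl s) (z : Loc R N s) = (z : Loc R N s)
    rw [hz, transLin_frac, Finset.sdiff_self, xs, Finset.prod_empty, one_pow, one_smul]))
  map_comp {s t r} f g := ModuleCat.hom_ext (LinearMap.ext fun (z : locPiece G d s) => Subtype.ext (by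
    obtain ⟨m, y, -, hz⟩ := z.2
    show transLin (leOfHom (f ≫ g)) (z : Loc R N s) = transLin (leOfHom g) (transLin (leOfHom f) (z : Loc R N s))
    rw [hz, transLin_frac, transLin_frac, transLin_frac, ← mul_smul, ← mul_pow]
    congr 3
    rw [xs, xs, xs, ← Finset.prod_union (disjoint_sdiff_self_left.mono_right Finset.sdiff_subset),
      Finset.sdiff_union_sdiff_cancel (leOfHom g) (leOfHom f)]))

variable (G' : Grading R ι N') (G'' : Grading R ι N'')

/-- A linear map sending pieces to pieces. -/
def IsHom (φ : N →ₗ[MvPolynomial ι R] N') : Prop := ∀ d, ∀ y ∈ G.piece d, φ y ∈ G'.piece d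

/-- The map of localisations. -/
noncomputable def locMap (φ : N →ₗ[MvPolynomial ι R] N') (s : Finset ι) : Loc R N s →ₗ[MvPolynomial ι R] Loc R N' s :=
  IsLocalizedModule.map (Submonoid.powers (xs R s)) (LocalizedModule.mkLinearMap _ N) (LocalizedModule.mkLinearMap _ N') φ

lemma locMap_frac (φ : N →ₗ[MvPolynomial ι R] N') (s : Finset ι) (y : N) (m : ℕ) :
    locMap φ s (frac s y m) = frac s (φ y) m := by
  apply ((Module.End.isUnit_iff _).1 (isUnit_xs_of_subset (N := N') (le_refl s) (pw R s m))).1
  simp only [Module.algebraMap_end_apply]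
  rw [← map_smul, frac, frac, LocalizedModule.smul'_mk, LocalizedModule.smul'_mk]
  refine ((congrArg _ (LocalizedModule.mk_cancel (pw R s m) y)).trans ?_).trans (LocalizedModule.mk_cancel (pw R s m) (φ y)).symm
  exact IsLocalizedModule.map_apply _ (LocalizedModule.mkLinearMap _ N) (LocalizedModule.mkLinearMap _ N') φ y

/-- The map of systems. -/
noncomputable def sysMap (φ : N →ₗ[MvPolynomial ι R] N') (hφ : IsHom G G' φ) (d : ℤ) : locSys G d ⟶ locSys G' d where
  app s := show ModuleCat.of R (locPiece G d s) ⟶ ModuleCat.of R (locPiece G' d s) from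
    ModuleCat.ofHom (((locMap φ s).restrictScalars R).restrict (p := locPiece G d s) (q := locPiece G' d s) fun z hz => by
    obtain ⟨m, y, hy, rfl⟩ := hz
    exact ⟨m, φ y, hφ _ y hy, locMap_frac φ s y m⟩)
  naturality {s t} f := ModuleCat.hom_ext (LinearMap.ext fun (z : locPiece G d s) => Subtype.ext (by
    obtain ⟨m, y, -, hz⟩ := z.2
    show locMap φ t (transLin (leOfHom f) (z : Loc R N s)) = transLin (leOfHom f) (locMap φ s (z : Loc R N s))
    rw [hz, transLin_frac, locMap_frac, locMap_frac, transLin_frac, map_smul]))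

/-- Degreewise exact sequence of graded modules. -/
structure GrExact (φ : N →ₗ[MvPolynomial ι R] N') (ψ : N' →ₗ[MvPolynomial ι R] N'') : Prop where
  hom_left : IsHom G G' φ
  hom_right : IsHom G' G'' ψ
  inj : Function.Injective φ
  zero : ∀ y, ψ (φ y) = 0
  surj : ∀ d, ∀ z ∈ G''.piece d, ∃ y ∈ G'.piece d, ψ y = z
  exact : ∀ d, ∀ y ∈ G'.piece d, ψ y = 0 → ∃ x ∈ G.piece d, φ x = y

variable {G G' G''} {φ : N →ₗ[MvPolynomial ι R] N'} {ψ : N' →ₗ[MvPolynomial ι R] N''}

theorem exact3_sys (h : GrExact G G' G'' φ ψ) (d : ℤ) : Exact3 (sysMap G G' φ h.hom_left d) (sysMap G' G'' ψ h.hom_right d) where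
  inj s _ := by
    intro (z : locPiece G d s) (z' : locPiece G d s) e
    apply Subtype.ext
    obtain ⟨m, y, -, hz⟩ := z.2
    obtain ⟨m', y', -, hz'⟩ := z'.2
    have e' : locMap φ s (z : Loc R N s) = locMap φ s (z' : Loc R N s) := congrArg Subtype.val e
    rw [hz, hz', locMap_frac, locMap_frac, frac_eq_frac_iff] at e'
    rw [hz, hz', frac_eq_frac_iff]
    obtain ⟨k, hk⟩ := e'
    exact ⟨k, h.inj (by rw [map_smul, map_smul, hk])⟩
  surj s _ := by
    rintro ⟨_, m, y, hy, rfl⟩
    obtain ⟨x, hx, rfl⟩ := h.surj _ y hy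
    exact ⟨⟨frac s x m, m, x, hx, rfl⟩, Subtype.ext (locMap_frac ψ s x m)⟩
  zero s := by
    intro (z : locPiece G d s)
    apply Subtype.ext
    obtain ⟨m, y, -, hz⟩ := z.2
    show locMap ψ s (locMap φ s (z : Loc R N s)) = 0
    rw [hz, locMap_frac, locMap_frac, h.zero]
    exact LocalizedModule.zero_mk _
  exact s _ := by
    rintro ⟨_, m, y, hy, rfl⟩ e
    have e' : frac (R := R) s (ψ y) m = frac s (0 : N'') 0 :=
      ((locMap_frac ψ s y m).symm.trans (congrArg Subtype.val e)).trans (LocalizedModule.zero_mk _).symm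
    obtain ⟨k, hk⟩ := frac_eq_frac_iff.1 e'
    rw [smul_zero, add_zero, ← map_smul] at hk
    obtain ⟨x, hx, hxy⟩ := h.exact _ _ (pow_xs_smul_mem G' s k hy (d' := d + ((m + k : ℕ) : ℤ) * s.card) (by push_cast; ring)) hk
    refine ⟨⟨frac s x (m + k), m + k, x, hx, rfl⟩, Subtype.ext ?_⟩
    show locMap φ s (frac s x (m + k)) = frac s y m
    rw [locMap_frac, hxy, frac_mul]

end GradedCechLib
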