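import Groth.Agent.CechLib.Compare
import Mathlib.Algebra.Homology.HomologySequenceLemmas

/-!
# Čech cohomology computes cohomology compatibly with endomorphisms
-/

universe u
open CategoryTheory CategoryTheory.Limits TopologicalSpace Opposite CategoryTheory.Abelian
open QCohLib (AbSh HU)

namespace GradedCechLib

variable {X : TopCat.{u}} {ι : Type u} (U : ι → Opens X)

/-- Discontinuous sections are functorial. -/
noncomputable def gdMap {F G : AbSh X} (g : F ⟶ G) : CechLib.gd F ⟶ CechLib.gd G :=
  ⟨{ app := fun V => AddCommGrpCat.ofHom (AddMonoidHom.pi fun x : V.unop =>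
       ((TopCat.Presheaf.stalkFunctor AddCommGrpCat.{u} x.1).map g.hom).hom.comp
         (Pi.evalAddMonoidHom (fun y : V.unop => (CechLib.pre F).stalk y.1) x))
     naturality := fun V W i => by
      ext s
      rfl }⟩

theorem gdι_gdMap {F G : AbSh X} (g : F ⟶ G) : CechLib.gdι F ≫ gdMap g = g ≫ CechLib.gdι G := by
  apply Sheaf.hom_ext
  ext V s
  funext x
  exact TopCat.Presheaf.stalkFunctor_map_germ_apply V.unop x.1 x.2 g.hom s

/-- The sequence of discontinuous sections is functorial. -/
noncomputable def gdSeqMap {F : AbSh X} (g : F ⟶ F) : CechLib.gdSeq F ⟶ CechLib.gdSeq F :=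
  ShortComplex.homMk g (gdMap g) (cokernel.map (CechLib.gdι F) (CechLib.gdι F) g (gdMap g) (gdι_gdMap g))
    (gdι_gdMap g).symm (cokernel.π_desc _ _ _).symm

/-- The induced map of Čech sequences. -/
noncomputable def cxSeqMap {S T : ShortComplex (AbSh X)} (φ : S ⟶ T) : CechLib.cxSeq U S ⟶ CechLib.cxSeq U T :=
  ShortComplex.homMk ((cechComplexFunctor U).map φ.τ₁.hom) ((cechComplexFunctor U).map φ.τ₂.hom)
    ((cechComplexFunctor U).map φ.τ₃.hom)
    (by
      show (cechComplexFunctor U).map φ.τ₁.hom ≫ (cechComplexFunctor U).map T.f.hom =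
        (cechComplexFunctor U).map S.f.hom ≫ (cechComplexFunctor U).map φ.τ₂.hom
      rw [← Functor.map_comp, ← Functor.map_comp]
      exact congrArg _ (congrArg InducedCategory.Hom.hom φ.comm₁₂))
    (by
      show (cechComplexFunctor U).map φ.τ₂.hom ≫ (cechComplexFunctor U).map T.g.hom =
        (cechComplexFunctor U).map S.g.hom ≫ (cechComplexFunctor U).map φ.τ₃.hom
      rw [← Functor.map_comp, ← Functor.map_comp]
      exact congrArg _ (congrArg InducedCategory.Hom.hom φ.comm₂₃))

/-- The map on Čech cohomology induced by a map of sheaves. -/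
noncomputable abbrev hMap {F G : AbSh X} (g : F ⟶ G) (p : ℕ) :
    (CechLib.cx U F.obj).homology p ⟶ (CechLib.cx U G.obj).homology p :=
  HomologicalComplex.homologyMap ((cechComplexFunctor U).map g.hom) p

theorem h0_symm_natural {F G : AbSh X} {V : Opens X} (g : F ⟶ G) (s : F.obj.obj (op V)) :
    QCohLib.h0.symm (g.hom.app (op V) s) = (QCohLib.h0.symm s).comp (Ext.mk₀ g) (add_zero 0) := by
  rw [AddEquiv.symm_apply_eq, QCohLib.h0_comp, AddEquiv.apply_symm_apply]

theorem extClass_natural {S : ShortComplex (AbSh X)} (hS : S.ShortExact) {V : Opens X} (φ : S ⟶ S) {n m : ℕ}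
    (h : n + 1 = m) (x : HU S.X₃ n V) :
    ((x.comp (Ext.mk₀ φ.τ₃) (add_zero n)).comp hS.extClass h : HU S.X₁ m V) =
      (x.comp hS.extClass h).comp (Ext.mk₀ φ.τ₁) (add_zero m) := by
  subst h
  rw [Ext.comp_assoc_of_second_deg_zero, ← ShortComplex.ShortExact.extClass_naturality hS hS φ,
    Ext.comp_assoc_of_third_deg_zero]

/-- **Čech cohomology of an acyclic family computes cohomology, compatibly with endomorphisms.** -/
theorem exists_homology_equiv_natural (p : ℕ) (F : AbSh X) (h : CechLib.Acyc U F) :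
    ∃ e : (CechLib.cx U F.obj).homology p ≃+ HU F p (⨆ i, U i),
      ∀ (g : F ⟶ F) (x), e (hMap U g p x) = (e x).comp (Ext.mk₀ g) (add_zero p) := by
  induction p generalizing F with
  | zero =>
    let e := (AddEquiv.ofBijective (CechLib.h0Iso U F).hom (CechLib.h0Iso_bijective U F)).symm.trans QCohLib.h0.symm
    refine ⟨e, fun g x => ?_⟩
    obtain ⟨s, rfl⟩ := (CechLib.h0Iso_bijective U F).2 x
    have he : ∀ t, e (CechLib.h0Iso U F t) = QCohLib.h0.symm t := fun t =>
      congrArg QCohLib.h0.symm ((AddEquiv.ofBijective _ (CechLib.h0Iso_bijective U F)).symm_apply_apply t)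
    rw [show hMap U g 0 (CechLib.h0Iso U F s) = CechLib.h0Iso U F (g.hom.app (op (⨆ i, U i)) s) from
      ConcreteCategory.congr_hom (CechLib.h0Iso_natural U g) s, he, he, h0_symm_natural]
  | succ p ih =>
    have hS := CechLib.gdSeq_shortExact F
    have hC := CechLib.cxSeq_shortExact U hS fun n J => h n J 0
    have hnat : ∀ (g : F ⟶ F) (i j : ℕ) (hij : (ComplexShape.up ℕ).Rel i j) (z),
        hMap U g j (hC.δ i j hij z) = hC.δ i j hij (hMap U (gdSeqMap g).τ₃ i z) := fun g i j hij z =>
      ConcreteCategory.congr_hom (HomologicalComplex.HomologySequence.δ_naturality (cxSeqMap U (gdSeqMap g)) hC hC i j hij) z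
    match p with
    | 0 =>
      have := hC.epi_δ (i := 0) (j := 1) (hij := rfl) (CechLib.isZero_gd U F 0)
      let ψ : (CechLib.gdSeq F).X₃.obj.obj (op (⨆ i, U i)) →+ (CechLib.cx U F.obj).homology 1 :=
        (CechLib.h0Iso U (CechLib.gdSeq F).X₃ ≫ hC.δ 0 1 rfl).hom
      let δ' := QCohLib.delta0 hS (⨆ i, U i)
      have hψ : Function.Surjective ψ :=
        ((AddCommGrpCat.epi_iff_surjective _).mp this).comp (CechLib.h0Iso_bijective U _).2
      have hker : ψ.ker = δ'.ker := by
        ext q
        rw [AddMonoidHom.mem_ker, AddMonoidHom.mem_ker, QCohLib.delta0_eq_zero_iff hS]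
        have hn := CechLib.h0Iso_natural U (CechLib.gdSeq F).g
        constructor
        · intro hq
          obtain ⟨z, hz⟩ := (ShortComplex.ab_exact_iff _).mp (hC.homology_exact₃ 0 1 rfl)
            (CechLib.h0Iso U _ q) hq
          obtain ⟨t, rfl⟩ := (CechLib.h0Iso_bijective U (CechLib.gd F)).2 z
          refine ⟨t, (CechLib.h0Iso_bijective U _).1 ?_⟩
          exact ((ConcreteCategory.congr_hom hn t).symm).trans hz
        · rintro ⟨t, rfl⟩
          have h0 := ConcreteCategory.congr_hom (hC.comp_δ 0 1 rfl) (CechLib.h0Iso U (CechLib.gd F) t)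
          exact (congr_arg (hC.δ 0 1 rfl) (ConcreteCategory.congr_hom hn t).symm).trans h0
      let e := (QuotientAddGroup.quotientKerEquivOfSurjective ψ hψ).symm.trans
        ((QuotientAddGroup.quotientAddEquivOfEq hker).trans
          (QuotientAddGroup.quotientKerEquivOfSurjective δ' (QCohLib.delta0_surjective hS _)))
      have he : ∀ q, e (ψ q) = δ' q := fun q => by
        have h1 : (QuotientAddGroup.quotientKerEquivOfSurjective ψ hψ).symm (ψ q) = QuotientAddGroup.mk q :=
          (QuotientAddGroup.quotientKerEquivOfSurjective ψ hψ).symm_apply_eq.2 rfl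
        show (QuotientAddGroup.quotientKerEquivOfSurjective δ' (QCohLib.delta0_surjective hS _))
          (QuotientAddGroup.quotientAddEquivOfEq hker ((QuotientAddGroup.quotientKerEquivOfSurjective ψ hψ).symm (ψ q))) = δ' q
        rw [h1]
        rfl
      refine ⟨e, fun g x => ?_⟩
      obtain ⟨q, rfl⟩ := hψ x
      have h3 := ConcreteCategory.congr_hom (CechLib.h0Iso_natural U (gdSeqMap g).τ₃) q
      have h4 : hMap U g 1 (ψ q) = ψ ((gdSeqMap g).τ₃.hom.app (op (⨆ i, U i)) q) :=
        (hnat g 0 1 rfl _).trans (congrArg (hC.δ 0 1 rfl) h3)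
      rw [h4, he, he]
      show Ext.comp (QCohLib.h0.symm _) hS.extClass (zero_add 1) =
        (Ext.comp (QCohLib.h0.symm q) hS.extClass (zero_add 1)).comp _ _
      rw [h0_symm_natural]
      exact extClass_natural hS (gdSeqMap g) (zero_add 1) _
    | p + 1 =>
      obtain ⟨e, he⟩ := ih (CechLib.gdSeq F).X₃ (CechLib.acyc_quotient U h)
      let d := (hC.δIso (p + 1) (p + 2) rfl (CechLib.isZero_gd U F p)
        (CechLib.isZero_gd U F (p + 1))).addCommGroupIsoToAddEquiv
      let D := QCohLib.deltaEquiv hS p (⨆ i, U i)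
      refine ⟨d.symm.trans (e.trans D), fun g x => ?_⟩
      obtain ⟨z, rfl⟩ := d.surjective x
      have h4 : hMap U g (p + 2) (d z) = d (hMap U (gdSeqMap g).τ₃ (p + 1) z) := hnat g (p + 1) (p + 2) rfl z
      rw [h4]
      show D (e (d.symm (d (hMap U (gdSeqMap g).τ₃ (p + 1) z)))) = (D (e (d.symm (d z)))).comp (Ext.mk₀ g) (add_zero _)
      refine ((congrArg (fun w => D (e w)) (d.symm_apply_apply _)).trans ((congrArg D (he _ z)).trans ?_)).trans
        (congrArg (fun w => (D (e w)).comp (Ext.mk₀ g) (add_zero _)) (d.symm_apply_apply z)).symm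
      exact extClass_natural hS (gdSeqMap g) rfl (e z)

end GradedCechLib
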