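import Mathlib.AlgebraicTopology.AlternatingFaceMapComplex
import Mathlib.Algebra.Homology.HomologicalComplexAbelian
import Mathlib.Algebra.Homology.HomologySequence
import Mathlib.Algebra.Category.ModuleCat.Abelian
import Mathlib.RingTheory.Noetherian.Basic
import Mathlib.Algebra.Homology.ShortComplex.ModuleCat

/-!
# Čech complexes of systems of modules indexed by finite subsets

A system is a covariant functor on finite subsets; its Čech complex has in degree `p` the product over all
`(p+1)`-tuples of the value at the set of entries. Cohomology vanishes from the number of indices on.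
-/

universe u

open CategoryTheory CategoryTheory.Limits

namespace GradedCechLib

variable {R : Type u} [CommRing R] {ι : Type} [Fintype ι] [DecidableEq ι]

/-- Systems of modules. -/
abbrev Sys (R : Type u) [CommRing R] (ι : Type) := Finset ι ⥤ ModuleCat.{u} R

variable {L L' L'' : Sys R ι}

/-- Restriction. -/
def res (L : Sys R ι) {s t : Finset ι} (h : s ⊆ t) : L.obj s →ₗ[R] L.obj t := (L.map (homOfLE h)).hom

lemma res_res {s t r : Finset ι} (h : s ⊆ t) (h' : t ⊆ r) (x : L.obj s) :
    res L h' (res L h x) = res L (h.trans h') x := by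
  change (L.map (homOfLE h) ≫ L.map (homOfLE h')).hom x = _
  rw [← L.map_comp]
  rfl

lemma res_self {s : Finset ι} (x : L.obj s) : res L (le_refl s) x = x := by
  change (L.map (𝟙 s)).hom x = x
  simp

lemma res_bijective_of_subset {s t : Finset ι} (h : s ⊆ t) (h' : t ⊆ s) : Function.Bijective (res L h) := by
  obtain rfl := le_antisymm h h'
  exact ⟨fun x y e => by rwa [res_self, res_self] at e, fun x => ⟨x, res_self x⟩⟩

lemma app_res (φ : L ⟶ L') {s t : Finset ι} (h : s ⊆ t) (x : L.obj s) :
    (φ.app t).hom (res L h x) = res L' h ((φ.app s).hom x) := by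
  change (L.map (homOfLE h) ≫ φ.app t).hom x = _
  rw [φ.naturality]
  rfl

/-- The set of entries of a tuple. -/
abbrev rng {n : ℕ} (J : Fin n → ι) : Finset ι := Finset.univ.image J

lemma rng_comp {n m : ℕ} (J : Fin n → ι) (g : Fin m → Fin n) : rng (J ∘ g) ⊆ rng J := by
  intro x hx
  obtain ⟨a, -, rfl⟩ := Finset.mem_image.1 hx
  exact Finset.mem_image.2 ⟨g a, Finset.mem_univ _, rfl⟩

lemma rng_nonempty {n : ℕ} (J : Fin (n + 1) → ι) : (rng J).Nonempty := ⟨J 0, by simp⟩

/-- Cochains. -/
abbrev Cochain (L : Sys R ι) (n : ℕ) : Type u := ∀ J : Fin (n + 1) → ι, L.obj (rng J)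

/-- The cosimplicial module of a system. -/
noncomputable def cosimp (L : Sys R ι) : CosimplicialObject (ModuleCat.{u} R) where
  obj X := ModuleCat.of R (Cochain L X.len)
  map {X Y} θ := ModuleCat.ofHom (LinearMap.pi fun J : Fin (Y.len + 1) → ι =>
    (res L (rng_comp J θ.toOrderHom)).comp (LinearMap.proj (J ∘ θ.toOrderHom)))
  map_id X := by
    refine ModuleCat.hom_ext (LinearMap.ext fun c => funext fun J => ?_)
    exact res_self (c J)
  map_comp {X Y Z} θ η := by
    refine ModuleCat.hom_ext (LinearMap.ext fun c => funext fun J => ?_)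
    exact (res_res _ _ (c ((J ∘ η.toOrderHom) ∘ θ.toOrderHom))).symm

/-- Maps of systems act on cosimplicial modules. -/
noncomputable def cosimpMap (φ : L ⟶ L') : cosimp L ⟶ cosimp L' where
  app X := ModuleCat.ofHom (LinearMap.pi fun J : Fin (X.len + 1) → ι => (φ.app (rng J)).hom.comp (LinearMap.proj J))
  naturality {X Y} θ := by
    refine ModuleCat.hom_ext (LinearMap.ext fun c => funext fun J => ?_)
    exact app_res φ _ _

/-- The Čech complex of a system. -/
noncomputable def cx (L : Sys R ι) : CochainComplex (ModuleCat.{u} R) ℕ :=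
  (AlgebraicTopology.alternatingCofaceMapComplex _).obj (cosimp L)

/-- Functoriality. -/
noncomputable def cxMap (φ : L ⟶ L') : cx L ⟶ cx L' :=
  (AlgebraicTopology.alternatingCofaceMapComplex _).map (cosimpMap φ)

/-- The differential. -/
noncomputable def dd (L : Sys R ι) (n : ℕ) : Cochain L n →ₗ[R] Cochain L (n + 1) :=
  LinearMap.pi fun J => ∑ k : Fin (n + 2), ((-1 : ℤ) ^ (k : ℕ)) •
    (res L (rng_comp J k.succAbove)).comp (LinearMap.proj (J ∘ k.succAbove))

lemma dd_apply (n : ℕ) (c : Cochain L n) (J : Fin (n + 2) → ι) :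
    dd L n c J = ∑ k : Fin (n + 2), ((-1 : ℤ) ^ (k : ℕ)) • res L (rng_comp J k.succAbove) (c (J ∘ k.succAbove)) := by
  simp [dd, LinearMap.sum_apply]

lemma sum_zsmul_apply {A B : ModuleCat.{u} R} {κ : Type} (s : Finset κ) (a : κ → ℤ) (f : κ → (A ⟶ B)) (c : A) :
    (∑ k ∈ s, a k • f k).hom c = ∑ k ∈ s, a k • (f k).hom c := by
  classical
  induction s using Finset.induction_on with
  | empty => simp
  | insert k s hk ih => simp [Finset.sum_insert hk, ih]

lemma cx_d (n : ℕ) (c : Cochain L n) : ((cx L).d n (n + 1)).hom c = dd L n c := by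
  have h : (cx L).d n (n + 1) = AlgebraicTopology.AlternatingCofaceMapComplex.objD (cosimp L) n :=
    by simp [cx, AlgebraicTopology.alternatingCofaceMapComplex, AlgebraicTopology.AlternatingCofaceMapComplex.obj]
  rw [h, AlgebraicTopology.AlternatingCofaceMapComplex.objD]
  refine (sum_zsmul_apply _ (fun k : Fin (n + 2) => (-1 : ℤ) ^ (k : ℕ))
    (fun k => (cosimp L).δ k) c).trans ?_
  funext J
  rw [dd_apply]
  refine (Finset.sum_apply J _ _).trans (Finset.sum_congr rfl fun k _ => ?_)
  rfl

lemma cxMap_apply (φ : L ⟶ L') (n : ℕ) (c : Cochain L n) (J : Fin (n + 1) → ι) :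
    ((cxMap φ).f n).hom c J = (φ.app (rng J)).hom (c J) := rfl

/-- Cohomology of a system. -/
noncomputable abbrev H (L : Sys R ι) (p : ℕ) : ModuleCat.{u} R := (cx L).homology p

lemma isZero_succ (p : ℕ) (h : ∀ c : Cochain L (p + 1), dd L (p + 1) c = 0 → ∃ b, dd L p b = c) :
    IsZero (H L (p + 1)) := by
  rw [← HomologicalComplex.exactAt_iff_isZero_homology, HomologicalComplex.exactAt_iff' _ p (p + 1) (p + 2) (by simp) (by simp),
    ShortComplex.moduleCat_exact_iff]
  intro c hc
  obtain ⟨b, hb⟩ := h c ((cx_d (L := L) (p + 1) c).symm.trans hc)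
  exact ⟨b, (cx_d (L := L) p b).trans hb⟩

lemma isZero_zero (h : ∀ c : Cochain L 0, dd L 0 c = 0 → c = 0) : IsZero (H L 0) := by
  rw [← HomologicalComplex.exactAt_iff_isZero_homology, HomologicalComplex.exactAt_iff' _ 0 0 1 (by simp) (by simp),
    ShortComplex.moduleCat_exact_iff]
  intro c hc
  exact ⟨0, (map_zero _).trans (h c ((cx_d (L := L) 0 c).symm.trans hc)).symm⟩

/-- A system vanishing on nonempty sets has no cohomology. -/
lemma isZero_of_subsingleton (h : ∀ s : Finset ι, s.Nonempty → Subsingleton (L.obj s)) (p : ℕ) : IsZero (H L p) := by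
  haveI : ∀ n (J : Fin (n + 1) → ι), Subsingleton (L.obj (rng J)) := fun n J => h _ (rng_nonempty J)
  cases p with
  | zero => exact isZero_zero fun c _ => Subsingleton.elim _ _
  | succ p => exact isZero_succ p fun c _ => ⟨0, Subsingleton.elim _ _⟩

lemma res_congr {n : ℕ} (c : Cochain L n) {J K : Fin (n + 1) → ι} (e : J = K) {t : Finset ι} (h : rng J ⊆ t) (h' : rng K ⊆ t) :
    res L h (c J) = res L h' (c K) := by
  subst e
  rfl

/-- Adjoining a fixed index contracts the complex. -/
theorem isZero_of_cone (i : ι) (h : ∀ s : Finset ι, s.Nonempty → Function.Bijective (res L (Finset.subset_insert i s))) (p : ℕ) :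
    IsZero (H L (p + 1)) := by
  refine isZero_succ p fun c hc => ?_
  have hr : ∀ {n : ℕ} (J : Fin (n + 1) → ι), rng J ⊆ rng (Fin.cons i J : Fin (n + 2) → ι) := fun {n} J x hx => by
    obtain ⟨a, -, rfl⟩ := Finset.mem_image.1 hx
    exact Finset.mem_image.2 ⟨a.succ, Finset.mem_univ _, by simp⟩
  have hbij : ∀ {n : ℕ} (J : Fin (n + 1) → ι), Function.Bijective (res L (hr J)) := fun {n} J => by
    have hsub : insert i (rng J) ⊆ rng (Fin.cons i J : Fin (n + 2) → ι) := Finset.insert_subset
      (Finset.mem_image.2 ⟨0, Finset.mem_univ _, by simp⟩) (hr J)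
    have hsup : rng (Fin.cons i J : Fin (n + 2) → ι) ⊆ insert i (rng J) := fun x hx => by
      obtain ⟨a, -, rfl⟩ := Finset.mem_image.1 hx
      refine Fin.cases ?_ (fun b => ?_) a
      · simp
      · simp
    have := ((res_bijective_of_subset (L := L) hsub hsup).comp (h (rng J) (rng_nonempty J)))
    refine (Function.Bijective.of_comp_iff _ Function.bijective_id).1 ?_
    convert this using 1
    funext x
    exact (res_res (Finset.subset_insert i _) hsub x).symm
  choose b hb using fun J : Fin (p + 1) → ι => (hbij J).2 (c (Fin.cons i J))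
  refine ⟨b, funext fun J => (hbij J).1 ?_⟩
  rw [dd_apply, map_sum]
  have h0 := congrFun hc (Fin.cons i J : Fin (p + 3) → ι)
  rw [dd_apply, Fin.sum_univ_succ] at h0
  simp only [Fin.val_zero, pow_zero, one_smul, Pi.zero_apply, Fin.val_succ, pow_succ, mul_neg, mul_one, neg_smul,
    Finset.sum_neg_distrib] at h0
  rw [← sub_eq_add_neg, sub_eq_zero] at h0
  rw [res_congr c (show (Fin.cons i J : Fin (p + 3) → ι) ∘ (0 : Fin (p + 3)).succAbove = J by funext a; simp) _ (hr J)] at h0
  rw [h0]
  refine Finset.sum_congr rfl fun k _ => ?_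
  rw [map_zsmul, res_res]
  congr 1
  have e : (Fin.cons i J : Fin (p + 3) → ι) ∘ k.succ.succAbove = Fin.cons i (J ∘ k.succAbove) := by
    funext a
    refine Fin.cases ?_ (fun b => ?_) a
    · simp
    · simp
  have hle : rng (Fin.cons i (J ∘ k.succAbove) : Fin (p + 2) → ι) ⊆ rng (Fin.cons i J : Fin (p + 3) → ι) := fun x hx => by
    obtain ⟨a, -, rfl⟩ := Finset.mem_image.1 hx
    refine Fin.cases ?_ (fun b => ?_) a
    · exact Finset.mem_image.2 ⟨0, Finset.mem_univ _, by simp⟩
    · exact Finset.mem_image.2 ⟨(k.succAbove b).succ, Finset.mem_univ _, by simp⟩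
  rw [res_congr c e _ hle, ← hb, res_res]

section ShortExact

variable (φ : L ⟶ L') (ψ : L' ⟶ L'')

/-- Short exactness on nonempty sets. -/
structure Exact3 : Prop where
  inj : ∀ s : Finset ι, s.Nonempty → Function.Injective (φ.app s).hom
  surj : ∀ s : Finset ι, s.Nonempty → Function.Surjective (ψ.app s).hom
  zero : ∀ (s : Finset ι) (x : L.obj s), (ψ.app s).hom ((φ.app s).hom x) = 0
  exact : ∀ s : Finset ι, s.Nonempty → ∀ y, (ψ.app s).hom y = 0 → ∃ x, (φ.app s).hom x = y

variable {φ ψ}

/-- The short complex of Čech complexes. -/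
noncomputable def cxSeq (h : Exact3 φ ψ) : ShortComplex (CochainComplex (ModuleCat.{u} R) ℕ) :=
  ShortComplex.mk (cxMap φ) (cxMap ψ) (by
    refine HomologicalComplex.hom_ext _ _ fun n => ModuleCat.hom_ext (LinearMap.ext fun c => funext fun J => ?_)
    exact h.zero _ _)

theorem cxSeq_shortExact (h : Exact3 φ ψ) : (cxSeq h).ShortExact := by
  refine HomologicalComplex.shortExact_of_degreewise_shortExact _ fun n => ?_
  refine
    { exact := (ShortComplex.moduleCat_exact_iff _).2 fun c hc => ?_
      mono_f := (ModuleCat.mono_iff_injective _).2 fun c c' e => funext fun J => h.inj _ (rng_nonempty J) (congrFun e J)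
      epi_g := (ModuleCat.epi_iff_surjective _).2 fun c => ?_ }
  · choose x hx using fun J : Fin (n + 1) → ι => h.exact _ (rng_nonempty J) (c J) (congrFun hc J)
    exact ⟨x, funext hx⟩
  · choose x hx using fun J : Fin (n + 1) → ι => h.surj _ (rng_nonempty J) (c J)
    exact ⟨x, funext hx⟩

theorem isZero_mid (h : Exact3 φ ψ) (p : ℕ) (h1 : IsZero (H L p)) (h3 : IsZero (H L'' p)) : IsZero (H L' p) :=
  ((cxSeq_shortExact h).homology_exact₂ p).isZero_of_both_zeros (h1.eq_of_src _ _) (h3.eq_of_tgt _ _)

theorem isZero_left (h : Exact3 φ ψ) (p : ℕ) (h3 : IsZero (H L'' p)) (h2 : IsZero (H L' (p + 1))) :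
    IsZero (H L (p + 1)) :=
  ((cxSeq_shortExact h).homology_exact₁ p (p + 1) rfl).isZero_of_both_zeros (h3.eq_of_src _ _) (h2.eq_of_tgt _ _)

theorem isZero_right (h : Exact3 φ ψ) (p : ℕ) (h2 : IsZero (H L' p)) (h1 : IsZero (H L (p + 1))) :
    IsZero (H L'' p) :=
  ((cxSeq_shortExact h).homology_exact₃ p (p + 1) rfl).isZero_of_both_zeros (h2.eq_of_src _ _) (h1.eq_of_tgt _ _)

lemma finite_of_exact [IsNoetherianRing R] {S : ShortComplex (ModuleCat.{u} R)} (hS : S.Exact) (h1 : Module.Finite R S.X₁)
    (h3 : Module.Finite R S.X₃) : Module.Finite R S.X₂ := by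
  haveI := isNoetherian_of_isNoetherianRing_of_finite R S.X₃
  haveI := isNoetherian_of_isNoetherianRing_of_finite R S.X₁
  haveI := isNoetherian_of_range_eq_ker S.f.hom S.g.hom ((ShortComplex.moduleCat_exact_iff_range_eq_ker _).1 hS)
  exact inferInstanceAs (Module.Finite R S.X₂)

theorem finite_right [IsNoetherianRing R] (h : Exact3 φ ψ) (p : ℕ) (h2 : Module.Finite R (H L' p))
    (h1 : Module.Finite R (H L (p + 1))) : Module.Finite R (H L'' p) :=
  finite_of_exact ((cxSeq_shortExact h).homology_exact₃ p (p + 1) rfl) h2 h1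

end ShortExact

section Vanishing

/-- A system restricted by an insertion. -/
noncomputable def shift (L : Sys R ι) (i : ι) : Sys R ι where
  obj s := L.obj (insert i s)
  map {s t} f := L.map (homOfLE (Finset.insert_subset_insert i (leOfHom f)))
  map_id s := L.map_id _
  map_comp f g := by rw [← L.map_comp]; rfl

/-- The map to the shifted system. -/
noncomputable def toShift (L : Sys R ι) (i : ι) : L ⟶ shift L i where
  app s := L.map (homOfLE (Finset.subset_insert i s))
  naturality {s t} f := by
    show L.map f ≫ L.map _ = L.map _ ≫ L.map _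
    rw [← L.map_comp, ← L.map_comp]
    rfl

/-- Kernel of a map of systems. -/
noncomputable def kerSys (φ : L ⟶ L') : Sys R ι where
  obj s := ModuleCat.of R (LinearMap.ker (φ.app s).hom)
  map {s t} f := ModuleCat.ofHom ((L.map f).hom.restrict (p := LinearMap.ker (φ.app s).hom) (q := LinearMap.ker (φ.app t).hom)
    fun x hx => by
      rw [LinearMap.mem_ker] at hx ⊢
      change (L.map f ≫ φ.app t).hom x = 0
      rw [φ.naturality]
      change (L'.map f).hom ((φ.app s).hom x) = 0
      rw [hx, map_zero])
  map_id s := ModuleCat.hom_ext (LinearMap.ext fun x => Subtype.ext (by simp))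
  map_comp f g := ModuleCat.hom_ext (LinearMap.ext fun x => Subtype.ext (by simp))

/-- Range of a map of systems. -/
noncomputable def rngSys (φ : L ⟶ L') : Sys R ι where
  obj s := ModuleCat.of R (LinearMap.range (φ.app s).hom)
  map {s t} f := ModuleCat.ofHom ((L'.map f).hom.restrict (p := LinearMap.range (φ.app s).hom) (q := LinearMap.range (φ.app t).hom)
    fun x hx => by
      obtain ⟨y, rfl⟩ := hx
      refine ⟨(L.map f).hom y, ?_⟩
      change (L.map f ≫ φ.app t).hom y = _
      rw [φ.naturality]
      rfl)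
  map_id s := ModuleCat.hom_ext (LinearMap.ext fun x => Subtype.ext (by simp))
  map_comp f g := ModuleCat.hom_ext (LinearMap.ext fun x => Subtype.ext (by simp))

/-- Cokernel of a map of systems. -/
noncomputable def cokerSys (φ : L ⟶ L') : Sys R ι where
  obj s := ModuleCat.of R (L'.obj s ⧸ LinearMap.range (φ.app s).hom)
  map {s t} f := ModuleCat.ofHom (Submodule.mapQ (LinearMap.range (φ.app s).hom) (LinearMap.range (φ.app t).hom) (L'.map f).hom
    fun x hx => by
      obtain ⟨y, rfl⟩ := hx
      refine ⟨(L.map f).hom y, ?_⟩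
      change (L.map f ≫ φ.app t).hom y = _
      rw [φ.naturality]
      rfl)
  map_id s := ModuleCat.hom_ext (Submodule.linearMap_qext _ (LinearMap.ext fun x => by simp))
  map_comp f g := ModuleCat.hom_ext (Submodule.linearMap_qext _ (LinearMap.ext fun x => by simp))

noncomputable def kerι (φ : L ⟶ L') : kerSys φ ⟶ L where
  app _ := ModuleCat.ofHom (Submodule.subtype _)
noncomputable def rngπ (φ : L ⟶ L') : L ⟶ rngSys φ where
  app s := ModuleCat.ofHom (φ.app s).hom.rangeRestrict
  naturality {s t} f := ModuleCat.hom_ext (LinearMap.ext fun x => Subtype.ext (by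
    change (L.map f ≫ φ.app t).hom x = _
    rw [φ.naturality]
    rfl))
noncomputable def rngι (φ : L ⟶ L') : rngSys φ ⟶ L' where
  app _ := ModuleCat.ofHom (Submodule.subtype _)
noncomputable def cokerπ (φ : L ⟶ L') : L' ⟶ cokerSys φ where
  app s := ModuleCat.ofHom (LinearMap.range (φ.app s).hom).mkQ

lemma exact3_ker (φ : L ⟶ L') : Exact3 (kerι φ) (rngπ φ) where
  inj _ _ := Subtype.val_injective
  surj _ _ := LinearMap.surjective_rangeRestrict _
  zero _ x := Subtype.ext x.2
  exact _ _ y hy := ⟨⟨y, congrArg Subtype.val hy⟩, rfl⟩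

lemma exact3_coker (φ : L ⟶ L') : Exact3 (rngι φ) (cokerπ φ) where
  inj _ _ := Subtype.val_injective
  surj _ _ := Submodule.mkQ_surjective _
  zero _ x := (Submodule.Quotient.mk_eq_zero _).2 x.2
  exact _ _ y hy := ⟨⟨y, (Submodule.Quotient.mk_eq_zero _).1 hy⟩, rfl⟩

/-- A system supported on subsets of `T` has no cohomology from `#T` on. -/
theorem isZero_of_support (T : Finset ι) : ∀ (L : Sys R ι), (∀ s : Finset ι, ¬ s ⊆ T → Subsingleton (L.obj s)) →
    ∀ p, T.card ≤ p → IsZero (H L p) := by
  induction T using Finset.induction_on with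
  | empty => exact fun L hL p _ => isZero_of_subsingleton (fun s hs => hL s fun h => hs.ne_empty (Finset.subset_empty.1 h)) p
  | @insert i T hi ih =>
    intro L hL p hp
    rw [Finset.card_insert_of_notMem hi] at hp
    obtain ⟨p, rfl⟩ : ∃ q, p = q + 1 := ⟨p - 1, by omega⟩
    have hbij : ∀ s : Finset ι, i ∈ s → Function.Bijective ((toShift L i).app s).hom := fun s hs =>
      res_bijective_of_subset (L := L) (Finset.subset_insert i s) (Finset.insert_subset hs (le_refl s))
    have hS : ∀ s : Finset ι, ¬ s ⊆ T → i ∈ s ∨ ¬ s ⊆ insert i T := fun s hs => by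
      rcases Classical.em (s ⊆ insert i T) with h | h
      · exact Or.inl (by_contra fun his => hs ((Finset.subset_insert_iff_of_notMem his).1 h))
      · exact Or.inr h
    have hK : ∀ q, T.card ≤ q → IsZero (H (kerSys (toShift L i)) q) := ih _ fun s hs => by
      refine ⟨fun x y => Subtype.ext ?_⟩
      rcases hS s hs with h | h
      · exact (hbij s h).1 (x.2.trans y.2.symm)
      · exact (hL s h).elim _ _
    have hQ : ∀ q, T.card ≤ q → IsZero (H (cokerSys (toShift L i)) q) := ih _ fun s hs => by
      rcases hS s hs with h | h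
      · exact Submodule.Quotient.subsingleton_iff.2 (LinearMap.range_eq_top.2 (hbij s h).2)
      · haveI : Subsingleton ((shift L i).obj s) := hL _ fun h' => h ((Finset.subset_insert i s).trans h')
        exact Submodule.Quotient.subsingleton_iff.2 (Subsingleton.elim _ _)
    have hshift : IsZero (H (shift L i) (p + 1)) := isZero_of_cone i (fun s _ =>
      res_bijective_of_subset (L := L) (Finset.insert_subset_insert i (Finset.subset_insert i s))
        (Finset.insert_subset (Finset.mem_insert_self _ _) le_rfl)) p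
    exact isZero_mid (exact3_ker _) (p + 1) (hK _ (by omega))
      (isZero_left (exact3_coker _) p (hQ p (by omega)) hshift)

theorem isZero_of_card_le (L : Sys R ι) (p : ℕ) (hp : Fintype.card ι ≤ p) : IsZero (H L p) :=
  isZero_of_support Finset.univ L (fun s hs => absurd (Finset.subset_univ s) hs) p (by simpa using hp)

end Vanishing

end GradedCechLib
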