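import Groth.Agent.GradedCechLib.Ext
import Groth.Agent.GradedCechLib.CechNatural
import Groth.Agent.QCohLib.Vanishing
import Mathlib.Algebra.Homology.ShortComplex.Linear
import Mathlib.Algebra.Homology.ShortComplex.ModuleCat
import Mathlib.Algebra.Category.ModuleCat.Abelian

/-!
# Cohomology on projective space is the cohomology of the system of sections
-/

universe u

open CategoryTheory CategoryTheory.Limits AlgebraicGeometry Opposite TopologicalSpace
open QCohLib (AbSh HU toAbF)

namespace GradedCechLib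

variable {n : ℕ} {R : Type u} [CommRing R] (M : (CohB1.ProjSpace n R).Modules)

local notation "UU" => QCohLib.stdOpen n R

variable (n R) in
/-- The standard cover. -/
noncomputable abbrev stdCover : ULift.{u} (Fin (n + 1)) → (CohB1.ProjSpace n R).Opens := fun i => UU i.down

/-- Tuples without the universe lift. -/
abbrev downT {p : ℕ} (J : Fin p → ULift.{u} (Fin (n + 1))) : Fin p → Fin (n + 1) := ULift.down ∘ J

lemma cap_eq_Uof {p : ℕ} (J : Fin p → ULift.{u} (Fin (n + 1))) :
    CechLib.cap (stdCover n R) J = Uof (rng (downT J)) := by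
  refine le_antisymm (Finset.le_inf fun i hi => ?_) ((CechLib.le_cap_iff _).mpr fun a => ?_)
  · obtain ⟨a, -, rfl⟩ := Finset.mem_image.1 hi
    exact CechLib.cap_le (stdCover n R) J a
  · exact Uof_le (Finset.mem_image_of_mem _ (Finset.mem_univ a))

/-- A value of the system on a smaller open. -/
noncomputable def rsV {s : Finset (Fin (n + 1))} {W : (CohB1.ProjSpace n R).Opens} (h : W ≤ Uof s) :
    (secSys M).obj s →+ ((Coh.toAb M).obj.obj (op W) : AddCommGrpCat.{u}) :=
  (rsM M h).comp (toS M).toAddMonoidHom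

lemma rs_rsV {s : Finset (Fin (n + 1))} {W W' : (CohB1.ProjSpace n R).Opens} (h : W ≤ Uof s) (h' : W' ≤ W) (x : (secSys M).obj s) :
    CechLib.rs (Coh.toAb M).obj h' (rsV M h x) = rsV M (h'.trans h) x :=
  rsM_rsM M h h' _

lemma rsV_res {s t : Finset (Fin (n + 1))} (hst : s ⊆ t) {W : (CohB1.ProjSpace n R).Opens} (h : W ≤ Uof t) (x : (secSys M).obj s) :
    rsV M h (res (secSys M) hst x) = rsV M (h.trans (Finset.inf_mono hst)) x :=
  rsM_rsM M _ h _

lemma rsV_smul {s : Finset (Fin (n + 1))} {W : (CohB1.ProjSpace n R).Opens} (h : W ≤ Uof s) (r : R) (x : (secSys M).obj s) :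
    rsV M h (r • x) = (Coh.smulAb M (Coh.toGlobal (CohB1.ProjSpace.toSpec n R) r)).hom.app (op W) (rsV M h x) :=
  ((rsM_smul M h (cstOn n R (Uof s) r) (toS M x)).trans (by rw [resO_cstOn]; rfl) : _)

lemma rsV_bijective {s : Finset (Fin (n + 1))} {W : (CohB1.ProjSpace n R).Opens} (h : W ≤ Uof s) (h' : Uof s ≤ W) :
    Function.Bijective (rsV M h) :=
  ⟨(rsM_injective_of_le M h h').comp (toS M).injective, fun y => ⟨(toS M).symm (rsM M h' y),
    (rsM_rsM M h' h y).trans (rsM_self M _ y)⟩⟩

/-- Cochains of the system as Čech cochains. -/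
noncomputable def cochainCompare (p : ℕ) :
    Cochain (secSys M) p ≃+ CechLib.Cochain (stdCover n R) (Coh.toAb M).obj p :=
  AddEquiv.ofBijective
    (AddMonoidHom.pi fun J : Fin (p + 1) → ULift.{u} (Fin (n + 1)) =>
      (rsV M (cap_eq_Uof J).le).comp (Pi.evalAddMonoidHom (fun K : Fin (p + 1) → Fin (n + 1) => (secSys M).obj (rng K)) (downT J)))
    ⟨fun c c' h => funext fun K =>
      (rsV_bijective M (cap_eq_Uof (ULift.up ∘ K)).le (cap_eq_Uof (ULift.up ∘ K)).ge).1 (congrFun h (ULift.up ∘ K)),
    fun d => by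
      choose x hx using fun K : Fin (p + 1) → Fin (n + 1) =>
        (rsV_bijective M (cap_eq_Uof (ULift.up ∘ K)).le (cap_eq_Uof (ULift.up ∘ K)).ge).2 (d (ULift.up ∘ K))
      exact ⟨x, funext fun J => hx (downT J)⟩⟩

lemma cochainCompare_apply (p : ℕ) (c : Cochain (secSys M) p) (J : Fin (p + 1) → ULift.{u} (Fin (n + 1))) :
    cochainCompare M p c J = rsV M (cap_eq_Uof J).le (c (downT J)) := rfl

lemma cochainCompare_dd (p : ℕ) (c : Cochain (secSys M) p) :
    cochainCompare M (p + 1) (dd (secSys M) p c) = CechLib.dd (stdCover n R) (Coh.toAb M).obj p (cochainCompare M p c) := by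
  funext J
  rw [cochainCompare_apply, dd_apply, CechLib.dd_apply, map_sum]
  refine Finset.sum_congr rfl fun k _ => ?_
  rw [map_zsmul]
  congr 1
  exact (rsV_res M _ _ _).trans (rs_rsV M _ _ _).symm

/-- The forgetful functor on complexes. -/
noncomputable abbrev forgetCx : CochainComplex (ModuleCat.{u} R) ℕ ⥤ CochainComplex AddCommGrpCat.{u} ℕ :=
  (forget₂ (ModuleCat.{u} R) AddCommGrpCat.{u}).mapHomologicalComplex (ComplexShape.up ℕ)

/-- The components of the comparison. -/
noncomputable def cxCompareX (p : ℕ) :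
    (forgetCx.obj (cx (secSys M))).X p ≅ (CechLib.cx (stdCover n R) (Coh.toAb M).obj).X p :=
  ((cochainCompare M p).trans (CechLib.cochainEquiv (stdCover n R) (Coh.toAb M).obj p).symm).toAddCommGrpIso

lemma cochainEquiv_cxCompareX (p : ℕ) (c : Cochain (secSys M) p) :
    CechLib.cochainEquiv (stdCover n R) (Coh.toAb M).obj p ((cxCompareX M p).hom c) = cochainCompare M p c :=
  (CechLib.cochainEquiv (stdCover n R) (Coh.toAb M).obj p).apply_symm_apply _

/-- The comparison of complexes. -/
noncomputable def cxCompare : forgetCx.obj (cx (secSys M)) ≅ CechLib.cx (stdCover n R) (Coh.toAb M).obj :=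
  HomologicalComplex.Hom.isoOfComponents (cxCompareX M) fun i j hij => by
    obtain rfl : i + 1 = j := hij
    refine ConcreteCategory.hom_ext _ _ fun c => ?_
    apply (CechLib.cochainEquiv (stdCover n R) (Coh.toAb M).obj (i + 1)).injective
    refine (CechLib.ev_d _ _ i _).trans ?_
    refine (congrArg (CechLib.dd _ _ i) (cochainEquiv_cxCompareX M i c)).trans ?_
    refine Eq.trans ?_ (cochainEquiv_cxCompareX M (i + 1) _).symm
    refine (cochainCompare_dd M i c).symm.trans (congrArg (cochainCompare M (i + 1)) ?_)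
    exact (cx_d (L := secSys M) i c).symm

/-- The scalar of the base as a global function. -/
noncomputable abbrev gl (r : R) : Coh.Γtop (CohB1.ProjSpace n R) := Coh.toGlobal (CohB1.ProjSpace.toSpec n R) r

lemma cxCompare_smul (r : R) :
    forgetCx.map (r • 𝟙 (cx (secSys M))) ≫ (cxCompare M).hom =
      (cxCompare M).hom ≫ (cechComplexFunctor (stdCover n R)).map (Coh.smulAb M (gl r)).hom := by
  ext p : 1
  refine ConcreteCategory.hom_ext _ _ fun c => ?_
  apply (CechLib.cochainEquiv (stdCover n R) (Coh.toAb M).obj p).injective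
  refine (cochainEquiv_cxCompareX M p (HSMul.hSMul (α := R) (β := Cochain (secSys M) p) r c)).trans ?_
  funext J
  refine Eq.trans ?_ (CechLib.cochainEquiv_map (stdCover n R) (Coh.smulAb M (gl r)).hom p _ J).symm
  refine Eq.trans ?_ (congrArg ((Coh.smulAb M (gl r)).hom.app (op (CechLib.cap (stdCover n R) J)))
    (congrFun (cochainEquiv_cxCompareX M p c) J).symm)
  exact rsV_smul M _ r _

/-- Homology of the system as Čech cohomology. -/
noncomputable def hCompare (p : ℕ) :
    (forget₂ (ModuleCat.{u} R) AddCommGrpCat.{u}).obj (H (secSys M) p) ≅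
      (CechLib.cx (stdCover n R) (Coh.toAb M).obj).homology p :=
  (((cx (secSys M)).sc p).mapHomologyIso (forget₂ (ModuleCat.{u} R) AddCommGrpCat.{u})).symm ≪≫
    (HomologicalComplex.homologyFunctor _ _ p).mapIso (cxCompare M)

lemma homologyMap_smul_id (K : CochainComplex (ModuleCat.{u} R) ℕ) (r : R) (p : ℕ) :
    HomologicalComplex.homologyMap (r • 𝟙 K) p = r • 𝟙 (K.homology p) := by
  show ShortComplex.homologyMap ((HomologicalComplex.shortComplexFunctor _ _ p).map (r • 𝟙 K)) = _
  rw [show (HomologicalComplex.shortComplexFunctor _ _ p).map (r • 𝟙 K) = r • 𝟙 (K.sc p) from by ext <;> rfl,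
    ShortComplex.homologyMap_smul, ShortComplex.homologyMap_id]
  rfl

lemma map_homologyMap_comp_inv {S S' : ShortComplex (ModuleCat.{u} R)} (φ : S ⟶ S') :
    (forget₂ (ModuleCat.{u} R) AddCommGrpCat.{u}).map (ShortComplex.homologyMap φ) ≫
        (S'.mapHomologyIso (forget₂ (ModuleCat.{u} R) AddCommGrpCat.{u})).inv =
      (S.mapHomologyIso (forget₂ (ModuleCat.{u} R) AddCommGrpCat.{u})).inv ≫
        ShortComplex.homologyMap ((forget₂ (ModuleCat.{u} R) AddCommGrpCat.{u}).mapShortComplex.map φ) := by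
  refine (Iso.eq_inv_comp _).2 ?_
  have h := ShortComplex.mapHomologyIso_hom_naturality φ (forget₂ (ModuleCat.{u} R) AddCommGrpCat.{u})
  exact (Category.assoc _ _ _).symm.trans ((congrArg (· ≫ _) h.symm).trans
    ((Category.assoc _ _ _).trans ((congrArg (_ ≫ ·) (Iso.hom_inv_id _)).trans (Category.comp_id _))))

lemma hCompare_smul (p : ℕ) (r : R) (x : H (secSys M) p) :
    (hCompare M p).hom (r • x) = hMap (stdCover n R) (Coh.smulAb M (gl r)) p ((hCompare M p).hom x) := by
  have h1 : (forget₂ (ModuleCat.{u} R) AddCommGrpCat.{u}).map (HomologicalComplex.homologyMap (r • 𝟙 (cx (secSys M))) p) ≫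
      (hCompare M p).hom = (hCompare M p).hom ≫ hMap (stdCover n R) (Coh.smulAb M (gl r)) p := by
    refine (Category.assoc _ _ _).symm.trans (((congrArg (· ≫ HomologicalComplex.homologyMap (cxCompare M).hom p)
      (map_homologyMap_comp_inv ((HomologicalComplex.shortComplexFunctor _ _ p).map (r • 𝟙 (cx (secSys M)))))).trans
        (Category.assoc _ _ _)).trans ?_)
    refine Eq.trans (congrArg (_ ≫ ·) ?_) (Category.assoc _ _ _).symm
    exact (HomologicalComplex.homologyMap_comp (forgetCx.map (r • 𝟙 (cx (secSys M)))) (cxCompare M).hom p).symm.trans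
      ((congrArg (fun φ => HomologicalComplex.homologyMap φ p) (cxCompare_smul M r)).trans (HomologicalComplex.homologyMap_comp _ _ p))
  have h4 := ConcreteCategory.congr_hom h1 x
  rw [homologyMap_smul_id] at h4
  exact h4

lemma acyc_stdCover [Coh.IsQCoh M] : CechLib.Acyc (stdCover n R) ((toAbF (CohB1.ProjSpace n R)).obj M) := fun p J q => by
  rw [cap_eq_Uof]
  exact QCohLib.subsingleton_HU_affine M q (QCohLib.isAffineOpen_inf_stdOpen n R _ (rng_nonempty _))

/-- **Cohomology is computed by the system of sections.** -/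
theorem exists_HH_equiv [Coh.IsQCoh M] (p : ℕ) :
    ∃ e : H (secSys M) p ≃+ Coh.HH (CohB1.ProjSpace n R) M p, ∀ (r : R) x, e (r • x) = gl (n := n) r • e x := by
  obtain ⟨e, he⟩ := exists_homology_equiv_natural (stdCover n R) p (Coh.toAb M) (acyc_stdCover M)
  have htop : (⨆ i, stdCover n R i) = ⊤ := by
    rw [eq_top_iff, ← QCohLib.iSup_stdOpen n R]
    exact iSup_le fun i => le_iSup (stdCover n R) ⟨i⟩
  have hcast : ∀ {V W : (CohB1.ProjSpace n R).Opens}, V = W → ∃ c : HU (Coh.toAb M) p V ≃+ HU (Coh.toAb M) p W,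
      ∀ (g : Coh.toAb M ⟶ Coh.toAb M) (y : HU (Coh.toAb M) p V),
        c (y.comp (Abelian.Ext.mk₀ g) (add_zero p)) = (c y).comp (Abelian.Ext.mk₀ g) (add_zero p) := by
    rintro V _ rfl
    exact ⟨AddEquiv.refl _, fun _ _ => rfl⟩
  obtain ⟨c, hc⟩ := hcast htop
  refine ⟨((hCompare M p).addCommGroupIsoToAddEquiv.trans (e.trans c)).trans (QCohLib.hEquiv (Coh.toAb M) p).symm, fun r x => ?_⟩
  apply (QCohLib.hEquiv (Coh.toAb M) p).injective
  refine ((QCohLib.hEquiv (Coh.toAb M) p).apply_symm_apply _).trans ?_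
  refine Eq.trans ?_ (QCohLib.hEquiv_map (Coh.smulAb M (gl r)) p _).symm
  rw [AddEquiv.trans_apply, AddEquiv.apply_symm_apply]
  show c (e ((hCompare M p).hom (r • x))) = (c (e ((hCompare M p).hom x))).comp _ _
  rw [hCompare_smul, he, hc]

/-- Finiteness transfers. -/
theorem finite_HH_of_finite [Coh.IsQCoh M] (p : ℕ) (h : Module.Finite R (H (secSys M) p)) :
    Module.Finite R (Coh.HH (CohB1.ProjSpace n R) M p) := by
  obtain ⟨e, he⟩ := exists_HH_equiv M p
  exact Module.Finite.equiv { e with map_smul' := he }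

end GradedCechLib
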