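import Groth.Agent.GradedCechLib.Module

/-!
# Extending sections from charts, and generators of the graded module of a coherent sheaf
-/

universe u

open CategoryTheory AlgebraicGeometry Opposite TopologicalSpace MvPolynomial

namespace GradedCechLib

variable {n : ℕ} {R : Type u} [CommRing R] (M : (CohB1.ProjSpace n R).Modules)

local notation "UU" => QCohLib.stdOpen n R

lemma basicOpen_resO {V W : (CohB1.ProjSpace n R).Opens} (h : W ≤ V) (f : Γ(CohB1.ProjSpace n R, V)) :
    (CohB1.ProjSpace n R).basicOpen (resO n R h f) = W ⊓ (CohB1.ProjSpace n R).basicOpen f :=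
  Scheme.basicOpen_res _ f (homOfLE h).op

lemma isAffineOpen_stdOpen (i : Fin (n + 1)) : IsAffineOpen (UU i) := by
  simpa using QCohLib.isAffineOpen_inf_stdOpen n R {i} (Finset.singleton_nonempty i)

lemma isAffineOpen_inf (i j : Fin (n + 1)) : IsAffineOpen (UU i ⊓ UU j) := by
  simpa using QCohLib.isAffineOpen_inf_stdOpen n R {i, j} (Finset.insert_nonempty i {j})

lemma Uof_le {s : Finset (Fin (n + 1))} {i : Fin (n + 1)} (h : i ∈ s) : (Uof s : (CohB1.ProjSpace n R).Opens) ≤ UU i :=
  Finset.inf_le h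

/-- The nonvanishing locus of a product of coordinates in a chart. -/
lemma basicOpen_deh_xs (i : Fin (n + 1)) (s : Finset (Fin (n + 1))) :
    (CohB1.ProjSpace n R).basicOpen (deh n R i (xs R s)) = UU i ⊓ Uof s := by
  induction s using Finset.induction_on with
  | empty =>
    rw [xs, Finset.prod_empty, map_one, Scheme.basicOpen_of_isUnit _ isUnit_one]
    simp [Uof]
  | @insert a t ha ih =>
    rw [xs, Finset.prod_insert ha, map_mul, Scheme.basicOpen_mul, basicOpen_deh_X, ← xs, ih, Uof, Uof, Finset.inf_insert]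
    exact (inf_inf_distrib_left _ _ _).symm

variable [Coh.IsQCoh M]

lemma exists_extend_chart {V W : (CohB1.ProjSpace n R).Opens} (hV : IsAffineOpen V) (f : Γ(CohB1.ProjSpace n R, V))
    (hW : W ≤ V) (e : (CohB1.ProjSpace n R).basicOpen f = W) (σ : Γ(M, W)) :
    ∃ (k : ℕ) (t : Γ(M, V)), rsM M hW t = resO n R hW f ^ k • σ := by
  subst e
  exact (QCohLib.localizingAt_of_isQCoh hV M f).exists_extend σ

lemma eq_zero_chart {V W : (CohB1.ProjSpace n R).Opens} (hV : IsAffineOpen V) (f : Γ(CohB1.ProjSpace n R, V))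
    (hW : W ≤ V) (e : (CohB1.ProjSpace n R).basicOpen f = W) (t : Γ(M, V)) (ht : rsM M hW t = 0) :
    ∃ k : ℕ, f ^ k • t = 0 := by
  subst e
  obtain ⟨k, hk⟩ := (QCohLib.localizingAt_of_isQCoh hV M f).eq_zero t ht
  have hk' : resO n R (le_refl V) f ^ k • t = 0 := hk
  rw [resO_self] at hk'
  exact ⟨k, hk'⟩

/-- **Every chart section is the value of a twisted global section.** -/
theorem exists_fam (i : Fin (n + 1)) (σ : Γ(M, UU i)) :
    ∃ (d : ℕ) (a : Fam M), a ∈ (famGrading M).piece d ∧ toΓ M (a i) = σ := by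
  choose m t ht using fun j => exists_extend_chart M (isAffineOpen_stdOpen j) (deh n R j (X i)) inf_le_left
    (basicOpen_deh_X n R j i) (rsM M (inf_le_right : UU j ⊓ UU i ≤ UU i) σ)
  obtain ⟨M0, hM0⟩ : ∃ M0, ∀ j, m j ≤ M0 := ⟨Finset.univ.sup m, fun j => Finset.le_sup (Finset.mem_univ j)⟩
  obtain ⟨a0, h0⟩ : ∃ a0 : ∀ j, Γ(M, UU j), ∀ j (W : (CohB1.ProjSpace n R).Opens) (hj : W ≤ UU j) (hi : W ≤ UU i),
      rsM M hj (a0 j) = resO n R hj (deh n R j (X i)) ^ M0 • rsM M hi σ :=
    ⟨fun j => deh n R j (X i) ^ (M0 - m j) • t j, fun j W hj hi => by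
      have h1 := congrArg (rsM M (le_inf hj hi)) (ht j)
      rw [rsM_rsM, rsM_smul, rsM_rsM, map_pow, resO_resO] at h1
      rw [rsM_smul, map_pow, h1, smul_smul, ← pow_add, Nat.sub_add_cancel (hM0 j)]⟩
  have hD : ∀ j l, ∃ k, resO n R (inf_le_left : UU j ⊓ UU l ≤ UU j) (deh n R j (X i)) ^ k •
      (rsM M (inf_le_left : UU j ⊓ UU l ≤ UU j) (a0 j) - resO n R (inf_le_left : UU j ⊓ UU l ≤ UU j) (deh n R j (X l)) ^ M0 •
        rsM M (inf_le_right : UU j ⊓ UU l ≤ UU l) (a0 l)) = 0 := fun j l => by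
    refine eq_zero_chart M (isAffineOpen_inf j l) _ inf_le_left
      (show _ = (UU j ⊓ UU l) ⊓ UU i by rw [basicOpen_resO, basicOpen_deh_X, ← inf_assoc, inf_eq_left.2 inf_le_left]) _ ?_
    rw [map_sub, rsM_smul, rsM_rsM, rsM_rsM, h0 j _ _ inf_le_right, h0 l _ _ inf_le_right, map_pow, resO_resO, sub_eq_zero,
      smul_smul, ← mul_pow, resO_deh_X n R j l i _ (inf_le_left.trans inf_le_right), mul_comm]
  choose k hk using hD
  obtain ⟨K, hK⟩ : ∃ K, ∀ j l, k j l ≤ K := ⟨Finset.univ.sup fun q : Fin (n + 1) × Fin (n + 1) => k q.1 q.2,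
    fun j l => Finset.le_sup (f := fun q : Fin (n + 1) × Fin (n + 1) => k q.1 q.2) (Finset.mem_univ (j, l))⟩
  refine ⟨M0 + K, fun j => (toΓ M).symm (deh n R j (X i) ^ K • a0 j), fun j l W hj hl => ?_, ?_⟩
  · have h2 := congrArg (fun x => resO n R (inf_le_left : UU j ⊓ UU l ≤ UU j) (deh n R j (X i)) ^ (K - k j l) • x) (hk j l)
    simp only [smul_zero] at h2
    rw [smul_smul, ← pow_add, Nat.sub_add_cancel (hK j l)] at h2
    have h3 := congrArg (rsM M (le_inf hj hl)) h2
    rw [rsM_smul, map_sub, rsM_smul, rsM_rsM, rsM_rsM, map_zero, map_pow, map_pow, resO_resO, resO_resO, smul_sub, sub_eq_zero] at h3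
    rw [AddEquiv.apply_symm_apply, AddEquiv.apply_symm_apply, rsM_smul, rsM_smul, map_pow, map_pow, zpow_natCast,
      Units.val_pow_eq_pow_val, h3, smul_smul, smul_smul, resO_deh_X n R j l i hj hl]
    congr 1
    show _ = resO n R hj (deh n R j (X l)) ^ (M0 + K) * _
    ring
  · have h3 := h0 i (UU i) le_rfl le_rfl
    rw [rsM_self, rsM_self, resO_self, deh_X_self, one_pow, one_smul] at h3
    rw [AddEquiv.apply_symm_apply, deh_X_self, one_pow, one_smul, h3]

omit [Coh.IsQCoh M] in
/-- Homogenisation at a coordinate. -/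
lemma exists_homogenization (i : Fin (n + 1)) (p : Poly n R) : ∃ B : ℤ, ∀ D : ℤ, B ≤ D →
    ∃ q : Poly n R, (∀ a, q.coeff a ≠ 0 → ∑ j, (a j : ℤ) = D) ∧ deh n R i q = deh n R i p := by
  induction p using MvPolynomial.induction_on' with
  | monomial a r =>
    refine ⟨∑ j, (a j : ℤ), fun D hD => ⟨monomial (Finsupp.single i (D - ∑ j, (a j : ℤ)).toNat + a) r, fun b hb => ?_, ?_⟩⟩
    · rw [coeff_monomial] at hb
      split_ifs at hb with h
      · rw [← h]
        simp only [Finsupp.add_apply, Nat.cast_add, Finset.sum_add_distrib]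
        simp [Finsupp.single_apply]
        omega
      · exact absurd rfl hb
    · rw [show monomial (Finsupp.single i (D - ∑ j, (a j : ℤ)).toNat + a) r =
        X i ^ (D - ∑ j, (a j : ℤ)).toNat * monomial a r by rw [X_pow_eq_monomial, monomial_mul, one_mul], map_mul, map_pow,
        deh_X_self, one_pow, one_mul]
  | add p q hp hq =>
    obtain ⟨B, hB⟩ := hp
    obtain ⟨B', hB'⟩ := hq
    refine ⟨max B B', fun D hD => ?_⟩
    obtain ⟨p', hp', ep⟩ := hB D (le_trans (le_max_left _ _) hD)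
    obtain ⟨q', hq', eq⟩ := hB' D (le_trans (le_max_right _ _) hD)
    refine ⟨p' + q', fun a ha => ?_, by rw [map_add, map_add, ep, eq]⟩
    by_cases h : p'.coeff a = 0
    · exact hq' a fun h' => ha (by rw [coeff_add, h, h', add_zero])
    · exact hp' a h

omit [Coh.IsQCoh M] in
/-- The submodule of twisted sections generated by given ones. -/
noncomputable def genGrading {κ : Type} [Fintype κ] (e : κ → ℤ) (g : κ → Fam M) : Grading R (Fin (n + 1)) (Fam M) where
  piece d := ((freeGrading R κ e).piece d).map ((genMap (R := R) (ι := Fin (n + 1)) g).restrictScalars R)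
  X_smul_mem i d y hy := by
    obtain ⟨f, hf, rfl⟩ := hy
    exact ⟨(X i : Poly n R) • f, (freeGrading R κ e).X_smul_mem i d f hf, map_smul (genMap (R := R) g) (X i : Poly n R) f⟩

/-- **Finitely many twisted sections generate on every chart.** -/
theorem exists_generators (hM : CohB1.IsFT M) :
    ∃ (r : ℕ) (e : Fin r → ℤ) (g : Fin r → Fam M), (∀ k, g k ∈ (famGrading M).piece (-e k)) ∧
      ∀ (i : Fin (n + 1)) (t : Γ(M, UU i)), ∃ c : Fin r → Poly n R, ∑ k, deh n R i (c k) • toΓ M (g k i) = t := by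
  classical
  have hfin : ∀ i : Fin (n + 1), ∃ (r : ℕ) (s : Fin r → Γ(M, UU i)),
      Submodule.span Γ(CohB1.ProjSpace n R, UU i) (Set.range s) = ⊤ := fun i =>
    haveI := QCohLib.finite_of_isFT hM (isAffineOpen_stdOpen (n := n) (R := R) i)
    Module.Finite.exists_fin
  choose r s hs using hfin
  choose d a ha hai using fun (q : Σ i, Fin (r i)) => exists_fam M q.1 (s q.1 q.2)
  let E := Fintype.equivFin (Σ i, Fin (r i))
  refine ⟨_, fun k => -(d (E.symm k) : ℤ), fun k => a (E.symm k), fun k => by rw [neg_neg]; exact ha _, fun i t => ?_⟩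
  have ht : t ∈ Submodule.span Γ(CohB1.ProjSpace n R, UU i) (Set.range fun k => toΓ M (a (E.symm k) i)) :=
    (Submodule.span_le.2 (by
      rintro _ ⟨l, rfl⟩
      refine Submodule.subset_span ⟨E ⟨i, l⟩, ?_⟩
      show toΓ M (a (E.symm (E ⟨i, l⟩)) i) = _
      rw [E.symm_apply_apply]; exact hai ⟨i, l⟩)) ((hs i).ge Submodule.mem_top)
  obtain ⟨c, hc⟩ := (Submodule.mem_span_range_iff_exists_fun _).1 ht
  choose p hp using fun k => deh_surjective n R i (c k)
  exact ⟨p, by simp only [hp]; exact hc⟩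

omit [Coh.IsQCoh M] in
lemma isFG_genGrading {r : ℕ} (e : Fin r → ℤ) (g : Fin r → Fam M) : IsFG (genGrading M e g) := by
  classical
  refine ⟨r, e, g, fun k => ⟨Pi.single k 1, fun l a h => ?_, ?_⟩, fun d y hy => hy⟩
  · rcases eq_or_ne l k with rfl | hl
    · rw [Pi.single_eq_same, coeff_one] at h
      split_ifs at h with h0
      · simp [← h0]
      · exact absurd rfl h
    · rw [Pi.single_eq_of_ne hl, coeff_zero] at h
      exact absurd rfl h
  · show genMap (R := R) (ι := Fin (n + 1)) g (Pi.single k 1) = g k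
    rw [genMap, Fintype.linearCombination_apply_single, one_smul]

omit [Coh.IsQCoh M] in
lemma genGrading_le {κ : Type} [Fintype κ] (e : κ → ℤ) (g : κ → Fam M) (hg : ∀ k, g k ∈ (famGrading M).piece (-e k)) :
    IsHom (genGrading M e g) (famGrading M) LinearMap.id := by
  rintro d _ ⟨f, hf, rfl⟩
  exact genMap_isHom (famGrading M) e g hg d f hf

omit [Coh.IsQCoh M] in
/-- The comparison with sections. -/
noncomputable def genSys {κ : Type} [Fintype κ] (e : κ → ℤ) (g : κ → Fam M) (hg : ∀ k, g k ∈ (famGrading M).piece (-e k)) :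
    locSys (genGrading M e g) 0 ⟶ secSys M :=
  sysMap (genGrading M e g) (famGrading M) LinearMap.id (genGrading_le M e g hg) 0 ≫ glueSys M

/-- Degree zero fractions are determined by their values. -/
lemma glue_injective (s : Finset (Fin (n + 1))) : Function.Injective (glue M s) := by
  intro z z' e
  have key : ∀ w : locPiece (famGrading M) 0 s, glue M s w = 0 → w = 0 := by
    rintro ⟨_, m, y, hy, rfl⟩ hw
    have hy0 : ∀ i, ∃ k : ℕ, deh n R i (xs R s) ^ k • toΓ M (y i) = 0 := fun i => by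
      refine eq_zero_chart M (isAffineOpen_stdOpen i) _ inf_le_left (basicOpen_deh_xs i s) _ ?_
      rw [← xs_pow_fracSec M s y m i, ← glue_spec M s ⟨frac s y m, m, y, hy, rfl⟩ i, hw, map_zero, smul_zero]
    choose k hk using hy0
    refine Subtype.ext ?_
    show frac (R := R) s y m = 0
    rw [show (0 : Loc R (Fam M) s) = frac s 0 0 from (LocalizedModule.zero_mk _).symm, frac_eq_frac_iff]
    refine ⟨Finset.univ.sup k, funext fun i => (toΓ M).injective ?_⟩
    obtain ⟨c, hc⟩ := Nat.exists_eq_add_of_le' (Finset.le_sup (f := k) (Finset.mem_univ i))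
    rw [smul_zero, (Finset.univ.sup k).add_zero, Pi.smul_apply, toΓ_smul, resO_self, map_pow, Pi.zero_apply, map_zero,
      hc, pow_add, mul_smul, hk i, smul_zero]
  have h1 : glue M s (z - z') = glue M s z - glue M s z' := glue_eq M s _ _ fun i => by
    rw [map_sub, glue_spec, glue_spec, Submodule.coe_sub, map_sub, Pi.sub_apply, map_sub]
  exact sub_eq_zero.1 (key _ (by rw [h1, e, sub_self]))

/-- **Sections over intersections of charts are degree zero fractions.** -/
theorem genSys_bijective {r : ℕ} (e : Fin r → ℤ) (g : Fin r → Fam M) (hg : ∀ k, g k ∈ (famGrading M).piece (-e k))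
    (hgen : ∀ (i : Fin (n + 1)) (t : Γ(M, UU i)), ∃ c : Fin r → Poly n R, ∑ k, deh n R i (c k) • toΓ M (g k i) = t)
    (s : Finset (Fin (n + 1))) (hs : s.Nonempty) : Function.Bijective ((genSys M e g hg).app s).hom := by
  have hid : ∀ w : Loc R (Fam M) s, locMap (R := R) (LinearMap.id : Fam M →ₗ[Poly n R] Fam M) s w = w := fun w => by
    induction w using LocalizedModule.induction_on with
    | h y x => obtain ⟨_, m, rfl⟩ := x; exact locMap_frac LinearMap.id s y m
  refine ⟨fun (z : locPiece (genGrading M e g) 0 s) (z' : locPiece (genGrading M e g) 0 s) h => ?_, fun σ => ?_⟩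
  · refine Subtype.ext ?_
    have h1 := congrArg Subtype.val (glue_injective M s ((toS M).symm.injective h))
    have h2 : locMap (R := R) (LinearMap.id : Fam M →ₗ[Poly n R] Fam M) s (z : Loc R (Fam M) s) =
        locMap (R := R) (LinearMap.id : Fam M →ₗ[Poly n R] Fam M) s (z' : Loc R (Fam M) s) := h1
    rwa [hid, hid] at h2
  obtain ⟨i₀, hi₀⟩ := hs
  have hU : UU i₀ ⊓ Uof s = Uof s := inf_eq_right.2 (Uof_le hi₀)
  obtain ⟨k, t, ht⟩ := exists_extend_chart M (isAffineOpen_stdOpen i₀) _ (Uof_le hi₀) ((basicOpen_deh_xs i₀ s).trans hU) (toS M σ)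
  obtain ⟨c, hc⟩ := hgen i₀ t
  choose B hB using fun l => exists_homogenization i₀ (c l)
  obtain ⟨D, hDk, hDB⟩ : ∃ D : ℤ, (k : ℤ) * s.card ≤ D ∧ ∀ l, B l ≤ D + e l := by
    refine ⟨(k : ℤ) * s.card + ∑ l, |B l - e l|, ?_, fun l => ?_⟩
    · simp [Finset.sum_nonneg]
    · have h1 : |B l - e l| ≤ ∑ l, |B l - e l| := Finset.single_le_sum (f := fun l => |B l - e l|) (fun _ _ => abs_nonneg _) (Finset.mem_univ l)
      have h2 := le_abs_self (B l - e l)
      have h3 : (0 : ℤ) ≤ (k : ℤ) * s.card := by positivity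
      omega
  choose q hq hqc using fun l => hB l (D + e l) (hDB l)
  let y : Fam M := genMap (R := R) (ι := Fin (n + 1)) g q
  have hy : y ∈ (genGrading M e g).piece D := ⟨q, hq, rfl⟩
  have hyi : toΓ M (y i₀) = t := by
    rw [← hc]
    show toΓ M ((Fintype.linearCombination (Poly n R) g q) i₀) = _
    rw [Fintype.linearCombination_apply, Finset.sum_apply, map_sum]
    refine Finset.sum_congr rfl fun l _ => ?_
    rw [Pi.smul_apply, toΓ_smul, resO_self, hqc]
  obtain ⟨b, hb⟩ : ∃ b : ℕ, D = (k : ℤ) * s.card + b := ⟨(D - (k : ℤ) * s.card).toNat, by omega⟩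
  have hy' : xs R (s.erase i₀) ^ b • y ∈ (genGrading M e g).piece (0 + ((k + b : ℕ) : ℤ) * s.card) :=
    pow_xs_smul_mem (genGrading M e g) _ b hy (by
      rw [← Finset.card_erase_add_one hi₀] at hb ⊢
      push_cast at hb ⊢
      rw [hb]; ring)
  let z : locPiece (genGrading M e g) 0 s := ⟨frac s (xs R (s.erase i₀) ^ b • y) (k + b), k + b, _, hy', rfl⟩
  refine ⟨z, ?_⟩
  let z' : locPiece (famGrading M) 0 s :=
    ⟨frac s (xs R (s.erase i₀) ^ b • y) (k + b), k + b, _, genGrading_le M e g hg _ _ hy', rfl⟩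
  refine Eq.trans (congrArg (fun w => (toS M).symm (glue M s w)) (show _ = z' from Subtype.ext (hid _))) ?_
  apply (toS M).injective
  rw [AddEquiv.apply_symm_apply]
  have hle : (Uof s : (CohB1.ProjSpace n R).Opens) ≤ UU i₀ ⊓ Uof s := le_inf (Uof_le hi₀) le_rfl
  have h5 := congrArg (rsM M hle) (xs_pow_fracSec M s (xs R (s.erase i₀) ^ b • y) (k + b) i₀)
  rw [rsM_smul, resO_resO, rsM_rsM, ← glue_spec M s z' i₀, rsM_rsM, rsM_self, Pi.smul_apply, toΓ_smul, resO_self, rsM_smul,
    hyi, ht, smul_smul] at h5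
  have hxe : deh n R i₀ (xs R (s.erase i₀)) = deh n R i₀ (xs R s) := by
    rw [xs, xs, ← Finset.mul_prod_erase s _ hi₀, map_mul, deh_X_self, one_mul]
  rw [map_pow, map_pow, map_pow, map_pow, hxe, ← pow_add, add_comm b k] at h5
  exact (((deh_xs_isUnit i₀ (Uof_le hi₀) le_rfl).pow (k + b)).smul_left_cancel).1 h5

end GradedCechLib
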