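import Groth.Agent.GradedCechLib.Laurent
import Mathlib.RingTheory.MvPolynomial.Homogeneous
import Mathlib.Data.Int.Interval

/-!
# Čech cohomology of graded free modules over a polynomial ring
-/

universe u

open CategoryTheory CategoryTheory.Limits MvPolynomial

namespace GradedCechLib

variable {R : Type u} [CommRing R] {ι : Type} [Fintype ι] [DecidableEq ι]

variable (R ι) in
/-- Laurent polynomials. -/
abbrev Lau : Type u := AddMonoidAlgebra R (ι → ℤ)

variable (ι) in
/-- Exponents as integer vectors. -/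
def expHom : (ι →₀ ℕ) →+ (ι → ℤ) where
  toFun n i := (n i : ℤ)
  map_zero' := by ext; simp
  map_add' x y := by ext; simp

omit [Fintype ι] [DecidableEq ι] in
lemma expHom_injective : Function.Injective (expHom ι) := fun x y h => Finsupp.ext fun i => Int.ofNat.inj (congrFun h i)

variable (R ι) in
/-- Polynomials inside Laurent polynomials. -/
noncomputable def toLau : MvPolynomial ι R →ₐ[R] Lau R ι := AddMonoidAlgebra.mapDomainAlgHom R R (expHom ι)

omit [Fintype ι] [DecidableEq ι] in
lemma coeff_toLau (p : MvPolynomial ι R) : (toLau R ι p).coeff = Finsupp.mapDomain (expHom ι) (AddMonoidAlgebra.coeff p) := by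
  simp [toLau]

omit [Fintype ι] [DecidableEq ι] in
lemma toLau_monomial (n : ι →₀ ℕ) (r : R) : toLau R ι (monomial n r) = AddMonoidAlgebra.single (expHom ι n) r := by
  ext a
  rw [coeff_toLau]
  show (Finsupp.mapDomain (expHom ι) (AddMonoidAlgebra.single n r).coeff) a = _
  rw [AddMonoidAlgebra.coeff_single, Finsupp.mapDomain_single, AddMonoidAlgebra.coeff_single]

omit [Fintype ι] [DecidableEq ι] in
lemma toLau_injective : Function.Injective (toLau R ι) := fun p q h => by
  ext n
  have := congrArg (fun x : Lau R ι => x.coeff (expHom ι n)) h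
  simpa [coeff_toLau, Finsupp.mapDomain_apply expHom_injective, MvPolynomial.coeff] using this

variable (R) in
/-- The algebra structure on Laurent polynomials. -/
noncomputable abbrev lauAlg : Algebra (MvPolynomial ι R) (Lau R ι) := (toLau R ι).toRingHom.toAlgebra

attribute [local instance] lauAlg

instance isScalarTower_lau : IsScalarTower R (MvPolynomial ι R) (Lau R ι) :=
  IsScalarTower.of_algebraMap_eq fun r => ((toLau R ι).commutes r).symm

/-- The indicator exponent of a set, with multiplicity. -/
def indic (s : Finset ι) (m : ℕ) : ι → ℤ := fun i => if i ∈ s then (m : ℤ) else 0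

lemma toLau_xs_pow (s : Finset ι) (m : ℕ) : toLau R ι (xs R s ^ m) = AddMonoidAlgebra.single (indic s m) 1 := by
  have h1 : xs R s = monomial (∑ i ∈ s, Finsupp.single i 1) 1 := by
    rw [monomial_sum_one]
    rfl
  rw [h1, monomial_pow, one_pow, toLau_monomial]
  congr 1
  funext i
  simp [expHom, indic, Finsupp.finsetSum_apply, Finsupp.single_apply]

/-- Laurent monomials act bijectively. -/
lemma isUnit_lau {κ : Type} (s : Finset ι) (x : Submonoid.powers (xs R s)) :
    IsUnit (algebraMap (MvPolynomial ι R) (Module.End (MvPolynomial ι R) (κ → Lau R ι)) x) := by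
  obtain ⟨_, m, rfl⟩ := x
  rw [Module.End.isUnit_iff]
  let g : Lau R ι := AddMonoidAlgebra.single (-indic s m) 1
  have hg : toLau R ι (xs R s ^ m) * g = 1 := by
    rw [toLau_xs_pow, AddMonoidAlgebra.single_mul_single, add_neg_cancel, mul_one]
    rfl
  have hg' : g * toLau R ι (xs R s ^ m) = 1 := (mul_comm _ _).trans hg
  refine Function.bijective_iff_has_inverse.2 ⟨fun f k => g * f k, fun f => funext fun k => ?_, fun f => funext fun k => ?_⟩
  · show g * (toLau R ι (xs R s ^ m) * f k) = f k
    rw [← mul_assoc, hg', one_mul]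
  · show toLau R ι (xs R s ^ m) * (g * f k) = f k
    rw [← mul_assoc, hg, one_mul]

variable (κ : Type) [Fintype κ] (e : κ → ℤ)

variable (R) in
/-- The grading of a free module with shifts. -/
noncomputable def freeGrading : Grading R ι (κ → MvPolynomial ι R) where
  piece d :=
    { carrier := {y | ∀ (k : κ) (n : ι →₀ ℕ), (y k).coeff n ≠ 0 → ∑ i, (n i : ℤ) = d + e k}
      zero_mem' := fun k n h => absurd (coeff_zero n) h
      add_mem' := fun {y y'} hy hy' k n h => by
        rcases Classical.em ((y k).coeff n = 0) with h1 | h1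
        · refine hy' k n fun h2 => h ?_
          rw [Pi.add_apply, coeff_add, h1, h2, add_zero]
        · exact hy k n h1
      smul_mem' := fun r y hy k n h => hy k n fun h1 => h (by rw [Pi.smul_apply, coeff_smul, h1, smul_zero]) }
  X_smul_mem i d y hy k n h := by
    classical
    rw [Pi.smul_apply, smul_eq_mul, coeff_X_mul'] at h
    split_ifs at h with hi
    · have h1 := hy k _ h
      have h2 : n = (n - Finsupp.single i 1) + Finsupp.single i 1 :=
        (tsub_add_cancel_of_le (Finsupp.single_le_iff.2 (Nat.one_le_iff_ne_zero.2 (Finsupp.mem_support_iff.1 hi)))).symm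
      rw [h2]
      simp only [Finsupp.add_apply, Nat.cast_add, Finset.sum_add_distrib, h1]
      simp [Finsupp.single_apply]
      ring
    · exact absurd rfl h

/-- Exponents allowed over a set. -/
def allowed (d : ℤ) (s : Finset ι) : Set (κ × (ι → ℤ)) :=
  {ka | ∑ i, ka.2 i = d + e ka.1 ∧ ∀ i, i ∉ s → 0 ≤ ka.2 i}

omit [Fintype κ] in
lemma allowed_mono (d : ℤ) : Monotone (allowed (ι := ι) κ e d) :=
  fun _ _ hst _ h => ⟨h.1, fun i hi => h.2 i fun hi' => hi (hst hi')⟩

/-- Vectors of Laurent polynomials as functions on pairs. -/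
noncomputable def lauVec : (κ → Lau R ι) →ₗ[R] (κ × (ι → ℤ)) →₀ R :=
  (Finsupp.curryLinearEquiv R).symm.toLinearMap ∘ₗ (Finsupp.linearEquivFunOnFinite R ((ι → ℤ) →₀ R) κ).symm.toLinearMap ∘ₗ
    LinearMap.pi fun k =>
      { toFun := fun f => (f k).coeff
        map_add' := fun f g => rfl
        map_smul' := fun r f => rfl }

lemma lauVec_apply (f : κ → Lau R ι) (k : κ) (a : ι → ℤ) : lauVec κ f (k, a) = (f k).coeff a := by
  simp [lauVec, Finsupp.curryLinearEquiv, Finsupp.linearEquivFunOnFinite]

lemma lauVec_injective : Function.Injective (lauVec (R := R) (ι := ι) κ) := fun f g h => funext fun k => by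
  ext a
  rw [← lauVec_apply κ f k a, h, lauVec_apply]

/-- Fractions as Laurent polynomials. -/
noncomputable def toLauVec (s : Finset ι) : Loc R (κ → MvPolynomial ι R) s →ₗ[MvPolynomial ι R] (κ → Lau R ι) :=
  LocalizedModule.lift (Submonoid.powers (xs R s))
    (LinearMap.pi fun k => (Algebra.linearMap (MvPolynomial ι R) (Lau R ι)).comp (LinearMap.proj k)) (isUnit_lau s)

lemma toLauVec_frac (s : Finset ι) (y : κ → MvPolynomial ι R) (m : ℕ) (k : κ) :
    toLauVec κ s (frac s y m) k = AddMonoidAlgebra.single (-indic s m) 1 * toLau R ι (y k) := by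
  have h := congrArg (fun f : κ → Lau R ι => f k) (map_smul (toLauVec (R := R) κ s) (xs R s ^ m) (frac s y m))
  have h2 : xs R s ^ m • frac (R := R) s y m = LocalizedModule.mkLinearMap _ (κ → MvPolynomial ι R) y := by
    rw [frac, LocalizedModule.smul'_mk]
    exact LocalizedModule.mk_cancel (pw R s m) y
  have h3 : toLauVec (R := R) κ s (LocalizedModule.mkLinearMap _ (κ → MvPolynomial ι R) y) k = toLau R ι (y k) :=
    congrFun (LinearMap.congr_fun (LocalizedModule.lift_comp _ _ (isUnit_lau (R := R) (κ := κ) s)) y) k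
  simp only [h2, h3, Pi.smul_apply] at h
  rw [h]
  show _ = _ * (toLau R ι (xs R s ^ m) * _)
  rw [toLau_xs_pow, ← mul_assoc, AddMonoidAlgebra.single_mul_single, neg_add_cancel, one_mul]
  exact (one_mul _).symm

lemma coeff_toLauVec_frac (s : Finset ι) (y : κ → MvPolynomial ι R) (m : ℕ) (k : κ) (a : ι → ℤ) :
    (toLauVec κ s (frac s y m) k).coeff a = (toLau R ι (y k)).coeff (indic s m + a) := by
  rw [toLauVec_frac, AddMonoidAlgebra.coeff_single_mul_apply, one_mul, neg_neg]

variable (d : ℤ)

lemma toLauVec_injective (s : Finset ι) : Function.Injective (toLauVec (R := R) κ s) := by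
  refine (injective_iff_map_eq_zero _).2 fun z hz => ?_
  obtain ⟨y, x, rfl⟩ : ∃ y x, z = LocalizedModule.mk y x := by
    induction z using LocalizedModule.induction_on with
    | h y x => exact ⟨y, x, rfl⟩
  obtain ⟨_, m, rfl⟩ := x
  have hy : y = 0 := funext fun k => toLau_injective (by
    have h := congrFun hz k
    change toLauVec κ s (frac s y m) k = 0 at h
    have h' := congrArg (AddMonoidAlgebra.single (indic s m) (1 : R) * ·) h
    simp only [toLauVec_frac, ← mul_assoc, AddMonoidAlgebra.single_mul_single, add_neg_cancel, one_mul, mul_zero] at h'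
    rw [Pi.zero_apply, map_zero]
    exact (one_mul _).symm.trans h')
  rw [hy]
  exact LocalizedModule.zero_mk _

/-- The comparison with monomials. -/
noncomputable def freeVec (s : Finset ι) : locPiece (freeGrading R (ι := ι) κ e) d s →ₗ[R] (κ × (ι → ℤ)) →₀ R :=
  lauVec κ ∘ₗ (toLauVec κ s).restrictScalars R ∘ₗ Submodule.subtype _

lemma freeVec_mem (s : Finset ι) (z : locPiece (freeGrading R (ι := ι) κ e) d s) :
    freeVec κ e d s z ∈ Finsupp.supported R R (allowed κ e d s) := by
  obtain ⟨m, y, hy, hz⟩ := z.2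
  rintro ⟨k, a⟩ ha
  rw [Finset.mem_coe, Finsupp.mem_support_iff] at ha
  change lauVec κ (toLauVec κ s (z : Loc R (κ → MvPolynomial ι R) s)) (k, a) ≠ 0 at ha
  rw [lauVec_apply, hz, coeff_toLauVec_frac, coeff_toLau] at ha
  obtain ⟨n, hn⟩ : indic s m + a ∈ Set.range (expHom ι) := by
    by_contra h
    exact ha (Finsupp.mapDomain_notin_range _ _ h)
  rw [← hn, Finsupp.mapDomain_apply expHom_injective] at ha
  have ha' : a = expHom ι n - indic s m := by rw [hn, add_sub_cancel_left]
  refine ⟨?_, fun i hi => ?_⟩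
  · show ∑ i, a i = d + e k
    have := hy k n ha
    simp only [ha', Pi.sub_apply, Finset.sum_sub_distrib, expHom, indic, AddMonoidHom.coe_mk, ZeroHom.coe_mk]
    rw [this, Finset.sum_ite_mem, Finset.univ_inter, Finset.sum_const, nsmul_eq_mul]
    ring
  · show 0 ≤ a i
    rw [ha']
    simp [indic, hi, expHom]

/-- The isomorphism of systems. -/
noncomputable def freeIso : locSys (freeGrading R (ι := ι) κ e) d ⟶ suppSys R _ (allowed κ e d) (allowed_mono κ e d) where
  app s := show ModuleCat.of R (locPiece (freeGrading R (ι := ι) κ e) d s) ⟶ ModuleCat.of R (Finsupp.supported R R (allowed κ e d s)) from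
    ModuleCat.ofHom ((freeVec κ e d s).codRestrict _ (freeVec_mem κ e d s))
  naturality {s t} f := ModuleCat.hom_ext (LinearMap.ext fun (z : locPiece (freeGrading R (ι := ι) κ e) d s) => Subtype.ext (by
    show lauVec κ (toLauVec κ t (transLin (leOfHom f) (z : Loc R (κ → MvPolynomial ι R) s))) =
      lauVec κ (toLauVec κ s (z : Loc R (κ → MvPolynomial ι R) s))
    congr 1
    refine LinearMap.congr_fun (IsLocalizedModule.ext (Submonoid.powers (xs R s))
      (LocalizedModule.mkLinearMap _ (κ → MvPolynomial ι R)) (isUnit_lau (R := R) (κ := κ) s)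
      (j := (toLauVec κ t).comp (transLin (leOfHom f))) (k := toLauVec κ s) ?_) _
    ext y : 1
    show toLauVec (R := R) κ t (transLin (leOfHom f) (LocalizedModule.mkLinearMap _ _ y)) = toLauVec (R := R) κ s (LocalizedModule.mkLinearMap _ _ y)
    rw [transLin_mkLinearMap]
    exact (LinearMap.congr_fun (LocalizedModule.lift_comp _ _ (isUnit_lau (R := R) (κ := κ) t)) y).trans
      (LinearMap.congr_fun (LocalizedModule.lift_comp _ _ (isUnit_lau (R := R) (κ := κ) s)) y).symm))

lemma freeIso_app_bijective (s : Finset ι) : Function.Bijective ((freeIso (R := R) κ e d).app s).hom := by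
  refine ⟨fun (z z' : locPiece (freeGrading R (ι := ι) κ e) d s) h => Subtype.ext (toLauVec_injective κ s
    (lauVec_injective κ (congrArg Subtype.val h))), fun (f : Finsupp.supported R R (allowed κ e d s)) => ?_⟩
  classical
  let m : ℕ := f.1.support.sup fun ka => Finset.univ.sup fun i => (-(ka.2 i)).toNat
  let nexp : κ × (ι → ℤ) → (ι →₀ ℕ) := fun ka => Finsupp.equivFunOnFinite.symm fun i => (indic s m i + ka.2 i).toNat
  have hnexp : ∀ ka ∈ f.1.support, expHom ι (nexp ka) = indic s m + ka.2 := fun ka hka => by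
    funext i
    have hpos : 0 ≤ indic s m i + ka.2 i := by
      by_cases hi : i ∈ s
      · have h1 : (-(ka.2 i)).toNat ≤ m := le_trans (Finset.le_sup (f := fun i => (-(ka.2 i)).toNat) (Finset.mem_univ i))
          (Finset.le_sup (f := fun ka : κ × (ι → ℤ) => Finset.univ.sup fun i => (-(ka.2 i)).toNat) hka)
        simp only [indic, if_pos hi]
        omega
      · have h2 : 0 ≤ ka.2 i := ((Finsupp.mem_supported R _).1 f.2 hka).2 i hi
        simpa [indic, hi] using h2
    show (((indic s m i + ka.2 i).toNat : ℕ) : ℤ) = indic s m i + ka.2 i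
    exact Int.toNat_of_nonneg hpos
  let y : κ → MvPolynomial ι R := fun k => ∑ ka ∈ f.1.support, if ka.1 = k then monomial (nexp ka) (f.1 ka) else 0
  have hy : y ∈ (freeGrading R (ι := ι) κ e).piece (d + (m : ℤ) * s.card) := fun k n hn => by
    obtain ⟨ka, hka, hne⟩ := Finset.exists_ne_zero_of_sum_ne_zero (by rwa [coeff_sum] at hn)
    split_ifs at hne with hk
    · rw [coeff_monomial] at hne
      split_ifs at hne with hn'
      · have h1 := hnexp ka hka
        rw [hn'] at h1
        have h2 := ((Finsupp.mem_supported R _).1 f.2 hka).1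
        have h3 : ∀ i, (n i : ℤ) = indic s m i + ka.2 i := fun i => congrFun h1 i
        simp only [h3, Finset.sum_add_distrib, h2, hk, indic]
        rw [Finset.sum_ite_mem, Finset.univ_inter, Finset.sum_const, nsmul_eq_mul]
        ring
      · exact absurd rfl hne
    · exact absurd (coeff_zero n) hne
  refine ⟨⟨frac s y m, m, y, hy, rfl⟩, Subtype.ext (Finsupp.ext fun ⟨k, a⟩ => ?_)⟩
  show lauVec κ (toLauVec κ s (frac s y m)) (k, a) = f.1 (k, a)
  rw [lauVec_apply, coeff_toLauVec_frac, map_sum, AddMonoidAlgebra.coeff_sum, Finsupp.finsetSum_apply]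
  rw [Finset.sum_eq_single (k, a)]
  · rcases Classical.em ((k, a) ∈ f.1.support) with h | h
    · rw [if_pos rfl, toLau_monomial, hnexp _ h, AddMonoidAlgebra.coeff_single, Finsupp.single_eq_same]
    · rw [if_pos rfl, Finsupp.notMem_support_iff.1 h, monomial_zero, map_zero]
      rfl
  · rintro ⟨k', a'⟩ hka hne
    split_ifs with hk
    · rw [toLau_monomial, hnexp _ hka, AddMonoidAlgebra.coeff_single, Finsupp.single_eq_of_ne]
      intro h
      exact hne (Prod.ext hk (add_left_cancel h.symm))
    · rw [map_zero]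
      rfl
  · intro h
    rw [if_pos rfl, Finsupp.notMem_support_iff.1 h, monomial_zero, map_zero]
    rfl

/-- An exceptional exponent has all entries negative. -/
def exceptional : Set (κ × (ι → ℤ)) := {ka | ∑ i, ka.2 i = d + e ka.1 ∧ ∀ i, ka.2 i < 0}

omit [DecidableEq ι] in
lemma finite_exceptional : (exceptional (ι := ι) κ e d).Finite := by
  classical
  refine Set.Finite.subset (Finset.univ.biUnion fun k : κ => ({k} : Finset κ) ×ˢ
    Fintype.piFinset fun _ : ι => Finset.Icc (d + e k) (-1)).finite_toSet ?_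
  rintro ⟨k, a⟩ ⟨hsum, hneg⟩
  simp only [Finset.coe_biUnion, Set.mem_iUnion, Finset.mem_coe, Finset.mem_univ, exists_prop, true_and]
  refine ⟨k, Finset.mem_product.2 ⟨Finset.mem_singleton_self _, Fintype.mem_piFinset.2 fun i => Finset.mem_Icc.2 ⟨?_, ?_⟩⟩⟩
  · dsimp only at hsum hneg
    rw [← hsum, ← Finset.add_sum_erase _ _ (Finset.mem_univ i)]
    have : ∑ x ∈ Finset.univ.erase i, a x ≤ 0 := Finset.sum_nonpos fun x _ => (hneg x).le
    linarith
  · have := hneg i
    dsimp only at this ⊢
    omega

lemma exists_cone [Nonempty ι] (ka : κ × (ι → ℤ)) (h : ka ∉ exceptional (ι := ι) κ e d) :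
    ∃ i : ι, ∀ s : Finset ι, ka ∈ allowed κ e d (insert i s) → s.Nonempty → ka ∈ allowed κ e d s := by
  by_cases hs : ∑ i, ka.2 i = d + e ka.1
  · obtain ⟨i, hi⟩ : ∃ i, 0 ≤ ka.2 i := by
      by_contra hne
      push Not at hne
      exact h ⟨hs, hne⟩
    refine ⟨i, fun s hks _ => ⟨hs, fun j hj => ?_⟩⟩
    rcases eq_or_ne j i with rfl | hji
    · exact hi
    · exact hks.2 j (by simp [hji, hj])
  · exact ⟨Classical.arbitrary ι, fun s hks _ => absurd hks.1 hs⟩

lemma finite_common : {ka : κ × (ι → ℤ) | ∀ i : ι, ka ∈ allowed κ e d {i}}.Finite ∨ IsEmpty ι := by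
  classical
  rcases isEmpty_or_nonempty ι with h | h
  · exact Or.inr h
  refine Or.inl (Set.Finite.subset (Finset.univ.biUnion fun k : κ => ({k} : Finset κ) ×ˢ
    Fintype.piFinset fun _ : ι => Finset.Icc (-|d + e k|) |d + e k|).finite_toSet ?_)
  rintro ⟨k, a⟩ ha
  simp only [Finset.coe_biUnion, Set.mem_iUnion, Finset.mem_coe, Finset.mem_univ, exists_prop, true_and]
  refine ⟨k, Finset.mem_product.2 ⟨Finset.mem_singleton_self _, Fintype.mem_piFinset.2 fun i => ?_⟩⟩
  have hsum : ∑ x, a x = d + e k := (ha i).1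
  rw [← Finset.add_sum_erase _ _ (Finset.mem_univ i)] at hsum
  rcases (Finset.univ.erase i).eq_empty_or_nonempty with he | ⟨j, hj⟩
  · rw [he, Finset.sum_empty, add_zero] at hsum
    dsimp only at hsum ⊢
    rw [hsum]
    exact Finset.mem_Icc.2 ⟨neg_abs_le _, le_abs_self _⟩
  · have hij : i ≠ j := fun h => by subst h; simp at hj
    have h0 : 0 ≤ a i := (ha j).2 i (by simp [hij])
    have h1 : 0 ≤ ∑ x ∈ Finset.univ.erase i, a x := Finset.sum_nonneg fun x hx =>
      (ha i).2 x (by simpa using (Finset.mem_erase.1 hx).1)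
    refine Finset.mem_Icc.2 ⟨le_trans (neg_nonpos.2 (abs_nonneg _)) h0, le_trans ?_ (le_abs_self _)⟩
    dsimp only
    linarith

end GradedCechLib
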