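import Groth.Agent.GradedCechLib.Graded
import Mathlib.Algebra.MonoidAlgebra.Basic
import Mathlib.LinearAlgebra.Finsupp.Supported
import Mathlib.RingTheory.Finiteness.Cardinality

/-!
# Čech cohomology of graded free modules: Laurent monomials
-/

universe u

open CategoryTheory CategoryTheory.Limits MvPolynomial

namespace GradedCechLib

variable {R : Type u} [CommRing R] {ι : Type} [Fintype ι] [DecidableEq ι]

section Supported

/-- Systems of supported finitely supported functions. -/
noncomputable def suppSys (R : Type u) [CommRing R] {ι : Type} (α : Type) (A : Finset ι → Set α) (hA : Monotone A) : Sys R ι where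
  obj s := ModuleCat.of R (Finsupp.supported R R (A s))
  map {s t} f := ModuleCat.ofHom (Submodule.inclusion (Finsupp.supported_mono (hA (leOfHom f))))
  map_id s := rfl
  map_comp f g := rfl

variable {α : Type} (A : Finset ι → Set α) (hA : Monotone A)

/-- The underlying function of an element. -/
noncomputable def evS (s : Finset ι) : (suppSys R α A hA).obj s →ₗ[R] (α →₀ R) := (Finsupp.supported R R (A s)).subtype

lemma evS_res {s t : Finset ι} (h : s ⊆ t) (x : (suppSys R α A hA).obj s) :
    evS A hA t (res (suppSys R α A hA) h x) = evS A hA s x := rfl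

lemma evS_mem (s : Finset ι) (x : (suppSys R α A hA).obj s) {a : α} (ha : evS A hA s x a ≠ 0) : a ∈ A s :=
  (Finsupp.mem_supported R _).1 x.2 (Finsupp.mem_support_iff.2 ha)

lemma evS_injective (s : Finset ι) : Function.Injective (evS (R := R) A hA s) := Subtype.val_injective

/-- The value of a cochain at a tuple, as a function. -/
noncomputable abbrev val {n : ℕ} (c : Cochain (suppSys R α A hA) n) (J : Fin (n + 1) → ι) : α →₀ R := evS A hA (rng J) (c J)

lemma val_dd (n : ℕ) (c : Cochain (suppSys R α A hA) n) (J : Fin (n + 2) → ι) :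
    val A hA (dd (suppSys R α A hA) n c) J = ∑ k : Fin (n + 2), ((-1 : ℤ) ^ (k : ℕ)) • val A hA c (J ∘ k.succAbove) := by
  rw [val, dd_apply, map_sum]
  refine Finset.sum_congr rfl fun k _ => ?_
  rw [map_zsmul, evS_res]

variable (B : Set α)

/-- The exceptional set carries the cohomology. -/
theorem exists_bad_representative (hdec : ∀ a, a ∉ B → ∃ i : ι, ∀ s : Finset ι, a ∈ A (insert i s) → s.Nonempty → a ∈ A s)
    (p : ℕ) (c : Cochain (suppSys R α A hA) (p + 1)) (hc : dd (suppSys R α A hA) (p + 1) c = 0) :
    ∃ b : Cochain (suppSys R α A hA) p, ∀ J, ∀ a ∉ B, val A hA (c - dd (suppSys R α A hA) p b) J a = 0 := by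
  classical
  let i : (a : α) → a ∉ B → ι := fun a h => (hdec a h).choose
  let F : Finset α := Finset.univ.biUnion fun J : Fin (p + 2) → ι => (val A hA c J).support
  let b₀ : (Fin (p + 1) → ι) → α →₀ R := fun J =>
    Finsupp.onFinset F (fun a => if h : a ∈ B then 0 else val A hA c (Fin.cons (i a h) J) a) fun a ha => by
      by_cases h : a ∈ B
      · simp [h] at ha
      · rw [dif_neg h] at ha
        exact Finset.mem_biUnion.2 ⟨_, Finset.mem_univ _, Finsupp.mem_support_iff.2 ha⟩
  have hb₀ : ∀ J, b₀ J ∈ Finsupp.supported R R (A (rng J)) := fun J a ha => by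
    rw [Finset.mem_coe, Finsupp.mem_support_iff, Finsupp.onFinset_apply] at ha
    by_cases h : a ∈ B
    · simp [h] at ha
    · rw [dif_neg h] at ha
      refine (hdec a h).choose_spec _ (hA ?_ (evS_mem A hA _ _ ha)) (rng_nonempty J)
      intro x hx
      obtain ⟨k, -, rfl⟩ := Finset.mem_image.1 hx
      refine Fin.cases ?_ (fun m => ?_) k
      · exact Finset.mem_insert_self _ _
      · rw [Fin.cons_succ]; exact Finset.mem_insert_of_mem (Finset.mem_image.2 ⟨m, Finset.mem_univ _, rfl⟩)
  let b : Cochain (suppSys R α A hA) p := fun J => ⟨b₀ J, hb₀ J⟩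
  have hbv : ∀ J, val A hA b J = b₀ J := fun J => rfl
  refine ⟨b, fun J a ha => ?_⟩
  have h0 : val A hA (dd (suppSys R α A hA) (p + 1) c) (Fin.cons (i a ha) J) a = 0 := by
    rw [hc, val, Pi.zero_apply, map_zero, Finsupp.zero_apply]
  rw [val_dd, Finsupp.finsetSum_apply, Fin.sum_univ_succ] at h0
  rw [val, Pi.sub_apply, map_sub, ← val, ← val, val_dd, Finsupp.sub_apply, Finsupp.finsetSum_apply]
  have e0 : (Fin.cons (i a ha) J : Fin (p + 3) → ι) ∘ (0 : Fin (p + 3)).succAbove = J := by funext x; simp
  have e1 : ∀ k : Fin (p + 2), (Fin.cons (i a ha) J : Fin (p + 3) → ι) ∘ k.succ.succAbove =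
      Fin.cons (i a ha) (J ∘ k.succAbove) := fun k => by
    funext x
    refine Fin.cases ?_ (fun m => ?_) x
    · simp
    · simp
  simp only [e0, e1, Fin.val_zero, pow_zero, one_smul, Fin.val_succ, pow_succ, mul_neg, mul_one, neg_smul,
    Finsupp.neg_apply, Finset.sum_neg_distrib] at h0
  simp only [hbv, Finsupp.smul_apply, b₀, Finsupp.onFinset_apply, dif_neg ha] at h0 ⊢
  rw [sub_eq_zero]
  rw [← sub_eq_add_neg, sub_eq_zero] at h0
  exact h0

/-- Positive degree cohomology is carried by a finite exceptional set. -/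
theorem finite_succ [IsNoetherianRing R] (hB : B.Finite)
    (hdec : ∀ a, a ∉ B → ∃ i : ι, ∀ s : Finset ι, a ∈ A (insert i s) → s.Nonempty → a ∈ A s) (p : ℕ) :
    Module.Finite R (H (suppSys R α A hA) (p + 1)) := by
  classical
  let L := suppSys R α A hA
  let cyc : Submodule R (Cochain L (p + 1)) := LinearMap.ker (dd L (p + 1))
  let P : Submodule R (Cochain L (p + 1)) :=
    { carrier := {c | ∀ J, ∀ a ∉ B, val A hA c J a = 0}
      zero_mem' := fun J a _ => by rw [val, Pi.zero_apply, map_zero, Finsupp.zero_apply]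
      add_mem' := fun {c c'} hc hc' J a ha => by
        rw [val, Pi.add_apply, map_add, Finsupp.add_apply, ← val, ← val, hc J a ha, hc' J a ha, add_zero]
      smul_mem' := fun r c hc J a ha => by
        rw [val, Pi.smul_apply, map_smul, Finsupp.smul_apply, ← val, hc J a ha, smul_zero] }
  haveI : Finite hB.toFinset := inferInstance
  haveI : Module.Finite R P := by
    let emb : P →ₗ[R] ((Fin (p + 2) → ι) → hB.toFinset → R) := LinearMap.pi fun J => LinearMap.pi fun a =>
      (Finsupp.lapply (a : α)).comp ((evS A hA (rng J)).comp ((LinearMap.proj J).comp P.subtype))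
    refine Module.Finite.of_injective emb fun c c' e => Subtype.ext (funext fun J => evS_injective A hA _ (Finsupp.ext fun a => ?_))
    by_cases ha : a ∈ B
    · exact congrFun (congrFun e J) ⟨a, hB.mem_toFinset.2 ha⟩
    · exact (c.2 J a ha).trans (c'.2 J a ha).symm
  haveI : IsNoetherian R P := isNoetherian_of_isNoetherianRing_of_finite R P
  haveI : Module.Finite R ↥(Submodule.comap P.subtype cyc) := inferInstance
  let π : ↥(Submodule.comap P.subtype cyc) →ₗ[R] H L (p + 1) :=
    ((cx L).liftCycles (A := ModuleCat.of R ↥(Submodule.comap P.subtype cyc))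
      (ModuleCat.ofHom (P.subtype.comp (Submodule.subtype _))) (p + 2) (by simp)
      (ModuleCat.hom_ext (LinearMap.ext fun c => (cx_d (L := L) (p + 1) _).trans c.2)) ≫ (cx L).homologyπ (p + 1)).hom
  refine Module.Finite.of_surjective π fun h => ?_
  obtain ⟨z, rfl⟩ := (ModuleCat.epi_iff_surjective ((cx L).homologyπ (p + 1))).1 inferInstance h
  let c : Cochain L (p + 1) := ((cx L).iCycles (p + 1)).hom z
  have hc : dd L (p + 1) c = 0 := (cx_d (L := L) (p + 1) c).symm.trans
    (ConcreteCategory.congr_hom ((cx L).iCycles_d (p + 1) (p + 2)) z)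
  obtain ⟨b, hb⟩ := exists_bad_representative A hA B hdec p c hc
  have hcyc : c - dd L p b ∈ cyc := by
    show dd L (p + 1) (c - dd L p b) = 0
    rw [map_sub, hc, zero_sub, neg_eq_zero, ← cx_d, ← cx_d]
    exact ConcreteCategory.congr_hom ((cx L).d_comp_d p (p + 1) (p + 2)) b
  refine ⟨⟨⟨c - dd L p b, hb⟩, hcyc⟩, ?_⟩
  show ((cx L).homologyπ (p + 1)).hom _ = ((cx L).homologyπ (p + 1)).hom z
  rw [← sub_eq_zero, ← map_sub]
  have hbd : ((cx L).toCycles p (p + 1)).hom (-b) =
      ((cx L).liftCycles (A := ModuleCat.of R ↥(Submodule.comap P.subtype cyc))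
        (ModuleCat.ofHom (P.subtype.comp (Submodule.subtype _))) (p + 2) (by simp)
        (ModuleCat.hom_ext (LinearMap.ext fun c => (cx_d (L := L) (p + 1) _).trans c.2))).hom ⟨⟨c - dd L p b, hb⟩, hcyc⟩ - z := by
    apply (ModuleCat.mono_iff_injective ((cx L).iCycles (p + 1))).1 inferInstance
    rw [map_sub]
    refine (ConcreteCategory.congr_hom ((cx L).toCycles_i p (p + 1)) (-b)).trans ?_
    refine ((cx_d (L := L) p (-b)).trans ?_)
    rw [map_neg]
    refine Eq.trans ?_ (congrArg (fun x => x - c) (ConcreteCategory.congr_hom ((cx L).liftCycles_i _ _ _ _) _).symm)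
    exact (sub_sub_cancel_left c _).symm
  exact (congrArg (fun w => ((cx L).homologyπ (p + 1)).hom w) hbd).symm.trans
    (ConcreteCategory.congr_hom ((cx L).toCycles_comp_homologyπ p (p + 1)) (-b))

/-- Positive degree cohomology vanishes without exceptional elements. -/
theorem isZero_succ_supp (hdec : ∀ a : α, ∃ i : ι, ∀ s : Finset ι, a ∈ A (insert i s) → s.Nonempty → a ∈ A s) (p : ℕ) :
    IsZero (H (suppSys R α A hA) (p + 1)) := by
  refine isZero_succ p fun c hc => ?_
  obtain ⟨b, hb⟩ := exists_bad_representative A hA ∅ (fun a _ => hdec a) p c hc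
  refine ⟨b, (sub_eq_zero.1 (funext fun J => evS_injective A hA _ (Finsupp.ext fun a => ?_))).symm⟩
  rw [Pi.zero_apply, map_zero, Finsupp.zero_apply]
  exact hb J a (Set.notMem_empty a)

/-- Degree zero cohomology is carried by the common supports. -/
theorem finite_zero [IsNoetherianRing R] (hfin : {a | ∀ i : ι, a ∈ A {i}}.Finite) :
    Module.Finite R (H (suppSys R α A hA) 0) := by
  classical
  let L := suppSys R α A hA
  haveI : Finite hfin.toFinset := inferInstance
  let f : H L 0 →ₗ[R] ((Fin 1 → ι) → hfin.toFinset → R) := (LinearMap.pi fun J : Fin 1 → ι => LinearMap.pi fun a : hfin.toFinset =>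
    (Finsupp.lapply (a : α)).comp ((evS A hA (rng J)).comp (LinearMap.proj J))).comp
    ((cx L).isoHomologyπ₀.inv ≫ (cx L).iCycles 0).hom
  refine Module.Finite.of_injective f fun h h' e => ?_
  have hinj : Function.Injective ((cx L).isoHomologyπ₀.inv ≫ (cx L).iCycles 0).hom :=
    (ModuleCat.mono_iff_injective _).1 inferInstance
  refine hinj (funext fun J => evS_injective A hA _ (Finsupp.ext fun a => ?_))
  by_cases ha : a ∈ hfin.toFinset
  · exact congrFun (congrFun e J) ⟨a, ha⟩
  · -- a cocycle in degree zero has the same value at every index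
    have key : ∀ x : H L 0, val A hA (((cx L).isoHomologyπ₀.inv ≫ (cx L).iCycles 0).hom x) J a = 0 := by
      intro x
      set c : Cochain L 0 := ((cx L).isoHomologyπ₀.inv ≫ (cx L).iCycles 0).hom x
      have hc : dd L 0 c = 0 := (cx_d (L := L) 0 c).symm.trans
        (ConcreteCategory.congr_hom ((cx L).iCycles_d 0 1) ((cx L).isoHomologyπ₀.inv.hom x))
      by_contra hne
      apply ha
      refine hfin.mem_toFinset.2 fun i => ?_
      let K : Fin 1 → ι := fun _ => i
      have hd : val A hA (dd L 0 c) ![i, J 0] a = 0 := by rw [hc, val, Pi.zero_apply, map_zero, Finsupp.zero_apply]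
      rw [val_dd, Fin.sum_univ_two, Finsupp.add_apply, Finsupp.smul_apply, Finsupp.smul_apply] at hd
      have e0 : ![i, J 0] ∘ (0 : Fin 2).succAbove = J := funext fun x => by fin_cases x; rfl
      have e1 : ![i, J 0] ∘ (1 : Fin 2).succAbove = K := funext fun x => by fin_cases x; rfl
      rw [e0, e1] at hd
      have heq : val A hA c J a = val A hA c K a := by
        simpa [val, ← sub_eq_add_neg, sub_eq_zero] using hd
      have hK : rng K = {i} := by
        ext x; simp [K, eq_comm]
      rw [← hK]
      exact evS_mem A hA _ (c K) (heq ▸ hne)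
    exact (key h).trans (key h').symm

end Supported

end GradedCechLib
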