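import Groth.Agent.GradedCechLib.Chart
import Groth.Agent.GradedCechLib.Finite
import Groth.Agent.QCohLib.AffineFinite

/-!
# The graded module of a sheaf of modules on projective space
-/

universe u

open CategoryTheory AlgebraicGeometry Opposite TopologicalSpace MvPolynomial

namespace GradedCechLib

variable {n : ℕ} {R : Type u} [CommRing R] (M : (CohB1.ProjSpace n R).Modules)

local notation "UU" => QCohLib.stdOpen n R

/-- The intersection of charts. -/
noncomputable abbrev Uof (s : Finset (Fin (n + 1))) : (CohB1.ProjSpace n R).Opens := s.inf (QCohLib.stdOpen n R)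

/-- Restriction of sections. -/
noncomputable def rsM {V W : (CohB1.ProjSpace n R).Opens} (h : W ≤ V) : Γ(M, V) →+ Γ(M, W) :=
  (M.presheaf.map (homOfLE h).op).hom

lemma rsM_rsM {V W Z : (CohB1.ProjSpace n R).Opens} (h : W ≤ V) (h' : Z ≤ W) (x : Γ(M, V)) :
    rsM M h' (rsM M h x) = rsM M (h'.trans h) x := by
  show (M.presheaf.map (homOfLE h).op ≫ M.presheaf.map (homOfLE h').op).hom x = _
  rw [← Functor.map_comp]
  rfl

lemma rsM_self {V : (CohB1.ProjSpace n R).Opens} (h : V ≤ V) (x : Γ(M, V)) : rsM M h x = x := by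
  show (M.presheaf.map (𝟙 (op V))).hom x = x
  simp

lemma rsM_injective_of_le {V W : (CohB1.ProjSpace n R).Opens} (h : W ≤ V) (h' : V ≤ W) : Function.Injective (rsM M h) :=
  fun x y e => by
    have := congrArg (rsM M h') e
    rwa [rsM_rsM, rsM_rsM, rsM_self, rsM_self] at this

lemma rsM_smul {V W : (CohB1.ProjSpace n R).Opens} (h : W ≤ V) (f : Γ(CohB1.ProjSpace n R, V)) (x : Γ(M, V)) :
    rsM M h (f • x) = resO n R h f • rsM M h x :=
  M.map_smul (homOfLE h) f x

lemma resO_self {V : (CohB1.ProjSpace n R).Opens} (h : V ≤ V) (x : Γ(CohB1.ProjSpace n R, V)) : resO n R h x = x := by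
  change ((CohB1.ProjSpace n R).presheaf.map (𝟙 (op V))).hom x = x
  simp

/-- The sections over a part of a chart, as a module over the polynomial ring. -/
def Sec (i : Fin (n + 1)) (W : (CohB1.ProjSpace n R).Opens) (_hW : W ≤ QCohLib.stdOpen n R i) : Type u := Γ(M, W)

variable {i : Fin (n + 1)} {W : (CohB1.ProjSpace n R).Opens} {hW : W ≤ QCohLib.stdOpen n R i}

noncomputable instance : AddCommGroup (Sec M i W hW) := inferInstanceAs (AddCommGroup Γ(M, W))

/-- As plain sections. -/
noncomputable def toΓ : Sec M i W hW ≃+ Γ(M, W) := AddEquiv.refl _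

noncomputable instance secModule : Module (Poly n R) (Sec M i W hW) :=
  Module.compHom Γ(M, W) ((resO n R hW).comp (deh n R i))

noncomputable instance secModuleR : Module R (Sec M i W hW) :=
  Module.compHom Γ(M, W) (cstOn n R W)

lemma toΓ_smul (p : Poly n R) (x : Sec M i W hW) : toΓ M (p • x) = resO n R hW (deh n R i p) • toΓ M x := rfl

lemma toΓ_smulR (r : R) (x : Sec M i W hW) : toΓ M (r • x) = cstOn n R W r • toΓ M x := rfl

instance secTower : IsScalarTower R (Poly n R) (Sec M i W hW) :=
  IsScalarTower.of_algebraMap_smul fun r x => by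
    apply (toΓ M).injective
    rw [toΓ_smul, toΓ_smulR, MvPolynomial.algebraMap_eq, deh_C, resO_cstOn]

/-- Families of sections on the charts. -/
abbrev Fam : Type u := ∀ i : Fin (n + 1), Sec M i (QCohLib.stdOpen n R i) le_rfl

/-- The change of charts as a unit. -/
noncomputable def chartUnit (i j : Fin (n + 1)) {W : (CohB1.ProjSpace n R).Opens}
    (hi : W ≤ QCohLib.stdOpen n R i) (hj : W ≤ QCohLib.stdOpen n R j) : (Γ(CohB1.ProjSpace n R, W))ˣ where
  val := resO n R hi (deh n R i (X j))
  inv := resO n R hj (deh n R j (X i))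
  val_inv := (mul_comm _ _).trans (deh_X_inv n R i j hi hj)
  inv_val := deh_X_inv n R i j hi hj

lemma chartUnit_res (i j : Fin (n + 1)) {W Z : (CohB1.ProjSpace n R).Opens}
    (hi : W ≤ QCohLib.stdOpen n R i) (hj : W ≤ QCohLib.stdOpen n R j) (hZ : Z ≤ W) :
    Units.map (resO n R hZ).toMonoidHom (chartUnit i j hi hj) = chartUnit i j (hZ.trans hi) (hZ.trans hj) :=
  Units.ext (resO_resO n R _ _ _)

lemma res_zpow_chartUnit (i j : Fin (n + 1)) {W Z : (CohB1.ProjSpace n R).Opens}
    (hi : W ≤ QCohLib.stdOpen n R i) (hj : W ≤ QCohLib.stdOpen n R j) (hZ : Z ≤ W) (d : ℤ) :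
    resO n R hZ ((chartUnit i j hi hj ^ d : (Γ(CohB1.ProjSpace n R, W))ˣ) : Γ(CohB1.ProjSpace n R, W)) =
      ((chartUnit i j (hZ.trans hi) (hZ.trans hj) ^ d : (Γ(CohB1.ProjSpace n R, Z))ˣ) : Γ(CohB1.ProjSpace n R, Z)) := by
  rw [← chartUnit_res i j hi hj hZ, ← map_zpow]
  rfl

/-- Compatibility of two chart sections with a twist. -/
def Compat (d : ℤ) (a : Fam M) : Prop :=
  ∀ (i j : Fin (n + 1)) (W : (CohB1.ProjSpace n R).Opens) (hi : W ≤ UU i) (hj : W ≤ UU j),
    rsM M hi (toΓ M (a i)) = ((chartUnit i j hi hj ^ d : (Γ(CohB1.ProjSpace n R, W))ˣ) : Γ(CohB1.ProjSpace n R, W)) •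
      rsM M hj (toΓ M (a j))

/-- The sections of the twists, as families. -/
noncomputable def famGrading : Grading R (Fin (n + 1)) (Fam M) where
  piece d :=
    { carrier := {a | Compat M d a}
      zero_mem' := fun i j W hi hj => by simp
      add_mem' := fun {a b} ha hb i j W hi hj => by
        simp only [Pi.add_apply, map_add, ha i j W hi hj, hb i j W hi hj, smul_add]
      smul_mem' := fun r a ha i j W hi hj => by
        rw [Pi.smul_apply, Pi.smul_apply, toΓ_smulR, toΓ_smulR, rsM_smul, rsM_smul, resO_cstOn, resO_cstOn, ha i j W hi hj,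
          smul_comm] }
  X_smul_mem k d a ha i j W hi hj := by
    rw [Pi.smul_apply, Pi.smul_apply, toΓ_smul, toΓ_smul, resO_self, resO_self, rsM_smul, rsM_smul, ha i j W hi hj,
      resO_deh_X n R i j k hi hj, smul_smul, smul_smul, zpow_add_one, Units.val_mul]
    congr 1
    show _ = _ * resO n R hi (deh n R i (X j)) * _
    ring

/-- The chart sections of an intersection, as a module over the polynomial ring. -/
abbrev SecFam (s : Finset (Fin (n + 1))) : Type u := ∀ i : Fin (n + 1), Sec M i (UU i ⊓ Uof s) inf_le_left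

/-- Restriction of families. -/
noncomputable def famRes (s : Finset (Fin (n + 1))) : Fam M →ₗ[Poly n R] SecFam M s :=
  LinearMap.pi fun i =>
    { toFun := fun a => (toΓ M).symm (rsM M inf_le_left (toΓ M (a i)))
      map_add' := fun a b => by simp
      map_smul' := fun p a => by
        apply (toΓ M).injective
        rw [RingHom.id_apply, toΓ_smul, AddEquiv.apply_symm_apply, AddEquiv.apply_symm_apply, Pi.smul_apply, toΓ_smul,
          rsM_smul, resO_resO] }

lemma deh_xs_isUnit {s : Finset (Fin (n + 1))} (i : Fin (n + 1)) {W : (CohB1.ProjSpace n R).Opens} (hi : W ≤ UU i)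
    (hs : W ≤ Uof s) : IsUnit (resO n R hi (deh n R i (xs R s))) := by
  rw [xs, map_prod, map_prod, IsUnit.prod_iff]
  exact fun j hj => ⟨chartUnit i j hi (hs.trans (Finset.inf_le hj)), rfl⟩

lemma isUnit_secFam (s : Finset (Fin (n + 1))) (x : Submonoid.powers (xs R s)) :
    IsUnit (algebraMap (Poly n R) (Module.End (Poly n R) (SecFam M s)) x) := by
  obtain ⟨_, m, rfl⟩ := x
  rw [Module.End.isUnit_iff]
  have key : ∀ i : Fin (n + 1), ∃ u : (Γ(CohB1.ProjSpace n R, UU i ⊓ Uof s))ˣ,
      (u : Γ(CohB1.ProjSpace n R, UU i ⊓ Uof s)) = resO n R inf_le_left (deh n R i (xs R s ^ m)) := fun i => by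
    obtain ⟨u, hu⟩ := (deh_xs_isUnit i (inf_le_left : UU i ⊓ Uof s ≤ UU i) inf_le_right).pow m
    exact ⟨u, by rw [hu, map_pow, map_pow]⟩
  choose u hu using key
  refine Function.bijective_iff_has_inverse.2
    ⟨fun f i => (toΓ M).symm ((↑(u i)⁻¹ : Γ(CohB1.ProjSpace n R, UU i ⊓ Uof s)) • toΓ M (f i)),
      fun f => funext fun i => (toΓ M).injective ?_, fun f => funext fun i => (toΓ M).injective ?_⟩
  · show (↑(u i)⁻¹ : Γ(CohB1.ProjSpace n R, UU i ⊓ Uof s)) • toΓ M ((xs R s ^ m) • f i) = toΓ M (f i)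
    rw [toΓ_smul, ← hu, smul_smul, Units.inv_mul, one_smul]
  · show toΓ M ((xs R s ^ m) • ((toΓ M).symm ((↑(u i)⁻¹ : Γ(CohB1.ProjSpace n R, UU i ⊓ Uof s)) • toΓ M (f i)) :
      Sec M i (UU i ⊓ Uof s) inf_le_left)) = toΓ M (f i)
    rw [toΓ_smul, AddEquiv.apply_symm_apply, ← hu, smul_smul, Units.mul_inv, one_smul]

/-- Fractions as sections. -/
noncomputable def fracSec (s : Finset (Fin (n + 1))) : Loc R (Fam M) s →ₗ[Poly n R] SecFam M s :=
  LocalizedModule.lift _ (famRes M s) (isUnit_secFam M s)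

lemma fracSec_mk (s : Finset (Fin (n + 1))) (y : Fam M) :
    fracSec M s (LocalizedModule.mkLinearMap (Submonoid.powers (xs R s)) (Fam M) y) = famRes M s y :=
  LinearMap.congr_fun (LocalizedModule.lift_comp _ _ (isUnit_secFam M s)) y

lemma xs_pow_fracSec (s : Finset (Fin (n + 1))) (y : Fam M) (m : ℕ) (i : Fin (n + 1)) :
    resO n R (inf_le_left : UU i ⊓ Uof s ≤ UU i) (deh n R i (xs R s ^ m)) • toΓ M (fracSec M s (frac s y m) i) =
      rsM M (inf_le_left : UU i ⊓ Uof s ≤ UU i) (toΓ M (y i)) := by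
  rw [← toΓ_smul, ← Pi.smul_apply, ← map_smul]
  rw [show xs R s ^ m • frac (R := R) s y m = LocalizedModule.mkLinearMap _ (Fam M) y by
    rw [frac, LocalizedModule.smul'_mk]; exact LocalizedModule.mk_cancel (pw R s m) y, fracSec_mk]
  rfl

lemma fracSec_compat (s : Finset (Fin (n + 1))) (z : Loc R (Fam M) s) (hz : z ∈ locPiece (famGrading M) 0 s)
    (i j : Fin (n + 1)) {W : (CohB1.ProjSpace n R).Opens} (hi : W ≤ UU i ⊓ Uof s) (hj : W ≤ UU j ⊓ Uof s) :
    rsM M hi (toΓ M (fracSec M s z i)) = rsM M hj (toΓ M (fracSec M s z j)) := by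
  obtain ⟨m, y, hy, rfl⟩ := hz
  rw [zero_add] at hy
  have hWi : W ≤ UU i := hi.trans inf_le_left
  have hWj : W ≤ UU j := hj.trans inf_le_left
  apply ((deh_xs_isUnit i hWi (hi.trans inf_le_right)).pow m).smul_left_cancel.1
  have e1 := congrArg (rsM M hi) (xs_pow_fracSec M s y m i)
  rw [rsM_smul, rsM_rsM, resO_resO] at e1
  have e2 := congrArg (rsM M hj) (xs_pow_fracSec M s y m j)
  rw [rsM_smul, rsM_rsM, resO_resO] at e2
  have e3 : resO n R hWi (deh n R i (xs R s ^ m)) = resO n R hWj (deh n R j (xs R s ^ m)) *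
      ((chartUnit i j hWi hWj ^ ((m : ℤ) * s.card) : (Γ(CohB1.ProjSpace n R, W))ˣ) : Γ(CohB1.ProjSpace n R, W)) := by
    rw [show (m : ℤ) * s.card = ((s.card * m : ℕ) : ℤ) by push_cast; ring, zpow_natCast, Units.val_pow_eq_pow_val, pow_mul,
      map_pow, map_pow, map_pow, map_pow, ← mul_pow]
    congr 1
    rw [xs, map_prod, map_prod, map_prod, map_prod, ← Finset.prod_const, ← Finset.prod_mul_distrib]
    exact Finset.prod_congr rfl fun k _ => resO_deh_X n R i j k hWi hWj
  rw [← map_pow, ← map_pow]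
  conv_rhs => rw [e3, mul_comm, mul_smul, e2, ← hy i j W hWi hWj]
  exact e1

/-- Gluing the chart values. -/
lemma existsUnique_sec (s : Finset (Fin (n + 1))) (z : locPiece (famGrading M) 0 s) :
    ∃! σ : Γ(M, Uof s), ∀ i, rsM M (inf_le_right : UU i ⊓ Uof s ≤ Uof s) σ = toΓ M (fracSec M s z.1 i) := by
  refine TopCat.Sheaf.existsUnique_gluing' (Coh.toAb M : TopCat.Sheaf AddCommGrpCat _) (fun i => UU i ⊓ Uof s) (Uof s)
    (fun i => homOfLE inf_le_right) ?_ (fun i => toΓ M (fracSec M s z.1 i)) fun i j => ?_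
  · rw [← iSup_inf_eq, QCohLib.iSup_stdOpen, top_inf_eq]
  · exact fracSec_compat M s z.1 z.2 i j inf_le_left inf_le_right

/-- Sections over an open, as a module over the base ring. -/
def SecR (V : (CohB1.ProjSpace n R).Opens) : Type u := Γ(M, V)

noncomputable instance (V : (CohB1.ProjSpace n R).Opens) : AddCommGroup (SecR M V) := inferInstanceAs (AddCommGroup Γ(M, V))

noncomputable instance secRModule (V : (CohB1.ProjSpace n R).Opens) : Module R (SecR M V) :=
  Module.compHom Γ(M, V) (cstOn n R V)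

/-- As plain sections. -/
noncomputable def toS {V : (CohB1.ProjSpace n R).Opens} : SecR M V ≃+ Γ(M, V) := AddEquiv.refl _

lemma toS_smul {V : (CohB1.ProjSpace n R).Opens} (r : R) (x : SecR M V) : toS M (r • x) = cstOn n R V r • toS M x := rfl

/-- The system of sections on the intersections. -/
noncomputable def secSys : Sys R (Fin (n + 1)) where
  obj s := ModuleCat.of R (SecR M (Uof s))
  map {s t} f :=
    ModuleCat.ofHom
      { toFun := fun x => (toS M).symm (rsM M (Finset.inf_mono (leOfHom f)) (toS M x))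
        map_add' := fun x y => by simp
        map_smul' := fun r x => by
          apply (toS M).injective
          rw [RingHom.id_apply, AddEquiv.apply_symm_apply, toS_smul, toS_smul, AddEquiv.apply_symm_apply, rsM_smul, resO_cstOn] }
  map_id s := ModuleCat.hom_ext (LinearMap.ext fun x => rsM_self M _ x)
  map_comp f g := ModuleCat.hom_ext (LinearMap.ext fun x => (rsM_rsM M _ _ x).symm)

lemma fracSec_trans {s t : Finset (Fin (n + 1))} (h : s ⊆ t) (z : Loc R (Fam M) s) (i : Fin (n + 1)) :
    toΓ M (fracSec M t (transLin h z) i) =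
      rsM M (inf_le_inf_left _ (Finset.inf_mono h)) (toΓ M (fracSec M s z i)) := by
  let restr : SecFam M s →ₗ[Poly n R] SecFam M t := LinearMap.pi fun i =>
    { toFun := fun f => (toΓ M).symm (rsM M (inf_le_inf_left _ (Finset.inf_mono h)) (toΓ M (f i)))
      map_add' := fun a b => by simp
      map_smul' := fun p f => by
        apply (toΓ M).injective
        rw [RingHom.id_apply, toΓ_smul, AddEquiv.apply_symm_apply, AddEquiv.apply_symm_apply, Pi.smul_apply, toΓ_smul,
          rsM_smul, resO_resO] }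
  have hunit : ∀ x : Submonoid.powers (xs R s), IsUnit (algebraMap (Poly n R) (Module.End (Poly n R) (SecFam M t)) x) := by
    rintro ⟨_, m, rfl⟩
    have h1 := isUnit_secFam M t (pw R t m)
    simp only [pw] at h1 ⊢
    rw [show xs R t ^ m = xs R s ^ m * xs R (t \ s) ^ m by rw [← mul_pow, xs_mul_sdiff h], map_mul] at h1
    exact (((Commute.all (xs R s ^ m) (xs R (t \ s) ^ m)).map
      (algebraMap (Poly n R) (Module.End (Poly n R) (SecFam M t)))).isUnit_mul_iff.1 h1).1
  have e : (fracSec M t).comp (transLin h) = restr.comp (fracSec M s) := by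
    refine IsLocalizedModule.ext (Submonoid.powers (xs R s)) (LocalizedModule.mkLinearMap _ (Fam M)) hunit ?_
    refine LinearMap.ext fun y => ?_
    rw [LinearMap.comp_apply, LinearMap.comp_apply, LinearMap.comp_apply, LinearMap.comp_apply, transLin_mkLinearMap, fracSec_mk, fracSec_mk]
    funext k
    exact (toΓ M).injective (rsM_rsM M _ _ _).symm
  exact congrArg (fun f => toΓ M (f i)) (LinearMap.congr_fun e z)

/-- The value of a degree zero fraction. -/
noncomputable def glue (s : Finset (Fin (n + 1))) (z : locPiece (famGrading M) 0 s) : Γ(M, Uof s) :=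
  (existsUnique_sec M s z).choose

lemma glue_spec (s : Finset (Fin (n + 1))) (z : locPiece (famGrading M) 0 s) (i : Fin (n + 1)) :
    rsM M (inf_le_right : UU i ⊓ Uof s ≤ Uof s) (glue M s z) = toΓ M (fracSec M s z.1 i) :=
  (existsUnique_sec M s z).choose_spec.1 i

lemma glue_eq (s : Finset (Fin (n + 1))) (z : locPiece (famGrading M) 0 s) (σ : Γ(M, Uof s))
    (h : ∀ i, rsM M (inf_le_right : UU i ⊓ Uof s ≤ Uof s) σ = toΓ M (fracSec M s z.1 i)) : glue M s z = σ :=
  ((existsUnique_sec M s z).choose_spec.2 σ h).symm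

/-- Degree zero fractions as sections. -/
noncomputable def glueSys : locSys (famGrading M) 0 ⟶ secSys M where
  app s := show ModuleCat.of R (locPiece (famGrading M) 0 s) ⟶ ModuleCat.of R (SecR M (Uof s)) from ModuleCat.ofHom
    { toFun := fun z => (toS M).symm (glue M s z)
      map_add' := fun x y => by
        apply (toS M).injective
        rw [map_add, AddEquiv.apply_symm_apply, AddEquiv.apply_symm_apply, AddEquiv.apply_symm_apply]
        exact glue_eq M s _ _ fun i => by
          rw [map_add, glue_spec, glue_spec, Submodule.coe_add, map_add, Pi.add_apply, map_add]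
      map_smul' := fun r x => by
        apply (toS M).injective
        rw [RingHom.id_apply, toS_smul, AddEquiv.apply_symm_apply, AddEquiv.apply_symm_apply]
        exact glue_eq M s _ _ fun i => by
          rw [rsM_smul, glue_spec, resO_cstOn, Submodule.coe_smul, LinearMap.map_smul_of_tower, Pi.smul_apply, toΓ_smulR] }
  naturality {s t} f := ModuleCat.hom_ext (LinearMap.ext fun (z : locPiece (famGrading M) 0 s) => glue_eq M t _
    (rsM M (Finset.inf_mono (leOfHom f)) (glue M s z)) fun i => by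
      show _ = toΓ M (fracSec M t (transLin (leOfHom f) z.1) i)
      rw [fracSec_trans, ← glue_spec, rsM_rsM, rsM_rsM])

end GradedCechLib
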